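import Groth.Agent.Lib.FibHyper8.Family

/-!
# The bisimplicial family of a morphism of simplicial spaces, and a retraction of its diagonal
-/

set_option autoImplicit false
set_option backward.isDefEq.respectTransparency false
set_option backward.isDefEq.respectTransparency.types false
set_option maxHeartbeats 1000000

universe u

open CategoryTheory CategoryTheory.Limits Opposite FibDesc
open SimplexCategory
open scoped Simplicial
open Groth.Agent.FibSplit8 Groth.Agent.FibDouble8 Groth.Agent.FibProper8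

noncomputable section

namespace Groth.Agent.FibHyper8

local notation "DS" => SimplexCategory

variable {S : TopCat.{u}} {L' L : SimplicialObject (Over S)} (c : L' ⟶ L)

/-- The levelwise arrows. -/
def arrowF : DSᵒᵖ ⥤ Arrow TopCat.{u} where
  obj x := Arrow.mk (c.app x).left
  map {x y} g := Arrow.homMk (L'.map g).left (L.map g).left
    (congrArg Over.Hom.left (c.naturality g))
  map_id x := Arrow.hom_ext _ _ (congrArg Over.Hom.left (L'.map_id x)) (congrArg Over.Hom.left (L.map_id x))
  map_comp f g := Arrow.hom_ext _ _ (congrArg Over.Hom.left (L'.map_comp f g))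
    (congrArg Over.Hom.left (L.map_comp f g))

/-- The levelwise Čech nerves. -/
def nerveF : DSᵒᵖ ⥤ (WithInitial DS)ᵒᵖ ⥤ TopCat.{u} :=
  arrowF c ⋙ SimplicialObject.augmentedCechNerve ⋙
    AugmentedSimplexCategory.equivAugmentedSimplicialObject.inverse

/-- The structure map of a level. -/
abbrev lh (x : DS) : (L.obj (op x)).left ⟶ S := (L.obj (op x)).hom

theorem nerveF_base {x x' : DS} (g : x ⟶ x') (y : (WithInitial DS)ᵒᵖ) :
    ((nerveF c).map g.op).app y ≫ eA (c.app (op x)).left y ≫ lh (L := L) x =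
      eA (c.app (op x')).left y ≫ lh (L := L) x' := by
  refine (congrArg (fun t => t ≫ lh (L := L) x) (((nerveF c).map g.op).naturality (botTerminal.from y)).symm).trans ?_
  exact (Category.assoc _ _ _).trans (congrArg (_ ≫ ·) (Over.w (L.map g.op)))

/-- The rows. -/
def rowF : DS ⥤ WithInitial DS ⥤ TopCat.{u}ᵒᵖ where
  obj x := ((nerveF c).obj (op x)).rightOp
  map g := NatTrans.rightOp ((nerveF c).map g.op)
  map_id x := NatTrans.ext (funext fun y => Quiver.Hom.unop_inj
    (congrArg (fun t => t.app (op y)) ((nerveF c).map_id (op x))))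
  map_comp f g := NatTrans.ext (funext fun y => Quiver.Hom.unop_inj
    (congrArg (fun t => t.app (op y)) ((nerveF c).map_comp g.op f.op)))

/-- The base of a row. -/
def rowBase (x : DS) : (Functor.const (WithInitial DS)).obj (op S) ⟶ (rowF c).obj x where
  app y := (eA (c.app (op x)).left (op y) ≫ lh (L := L) x).op
  naturality y y' f := Quiver.Hom.unop_inj (by
    change (eA (c.app (op x)).left (op y') ≫ lh (L := L) x) ≫ 𝟙 S =
      (cechAug (c.app (op x)).left).map f.op ≫ eA (c.app (op x)).left (op y) ≫ lh (L := L) x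
    rw [Category.comp_id, ← Category.assoc, eA_comp])

/-- The doubly indexed family. -/
def bisRight : E2 DS DS ⥤ TopCat.{u}ᵒᵖ :=
  Functor.uncurry.obj (WithInitial.lift (rowF c) (Z := (Functor.const (WithInitial DS)).obj (op S)) (rowBase c)
    fun x x' g => NatTrans.ext (funext fun y => Quiver.Hom.unop_inj (nerveF_base c g (op y))))

/-- The bisimplicial family. -/
def bis : (WithInitial (E2 DS DS))ᵒᵖ ⥤ TopCat.{u} :=
  (WithInitial.lift (bisRight c) (Z := op S)
    (fun e => (bisRight c).map ((WithInitial.starInitial.to e.1, WithInitial.starInitial.to e.2) :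
      (WithInitial.star, WithInitial.star) ⟶ e))
    (fun e e' f => by
      rw [← (bisRight c).map_comp]
      exact congrArg (bisRight c).map (Prod.ext (hom_star _ _) (hom_star _ _)))).leftOp

/-- A row is a Čech nerve. -/
def jRow (x : DS) : cechAug (c.app (op x)).left ⟶ Yα (bis c) (αr x) where
  app i := 𝟙 ((cechAug (c.app (op x)).left).obj i)
  naturality i k f := by
    change (cechAug (c.app (op x)).left).map f ≫ 𝟙 _ = 𝟙 _ ≫
      (cechAug (c.app (op x)).left).map f ≫ ((nerveF c).map (𝟙 (op x))).app k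
    rw [CategoryTheory.Functor.map_id, Category.comp_id]
    exact ((Category.id_comp _).trans (Category.comp_id _)).symm

instance isIso_jRow (x : DS) (i : (WithInitial DS)ᵒᵖ) : IsIso ((jRow c x).app i) :=
  inferInstanceAs (IsIso (𝟙 ((cechAug (c.app (op x)).left).obj i)))

/-- The first axis is the simplicial space below. -/
def jAxis : Fam L ⟶ Yα (bis c) αu where
  app
    | ⟨.star⟩ => 𝟙 S
    | ⟨.of n⟩ => 𝟙 (L.obj (op n)).left
  naturality := by
    rintro ⟨x | _⟩ ⟨y | _⟩ ⟨f⟩
    · change (L.map (WithInitial.down f).op).left ≫ 𝟙 _ = 𝟙 _ ≫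
        (cechAug (c.app (op x)).left).map (𝟙 (bot DS)) ≫ (L.map (WithInitial.down f).op).left
      rw [Category.comp_id, CategoryTheory.Functor.map_id, Category.id_comp]
      exact (Category.id_comp _).symm
    · change lh (L := L) x ≫ 𝟙 _ = 𝟙 _ ≫
        (cechAug (c.app (op x)).left).map (𝟙 (bot DS)) ≫ eA (c.app (op x)).left (bot DS) ≫ lh (L := L) x
      rw [Category.comp_id, CategoryTheory.Functor.map_id, eA_bot, Category.id_comp, Category.id_comp]
      exact (Category.id_comp _).symm
    · exact (f : PEmpty).elim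
    · change (Fam L).map (Quiver.Hom.op f) ≫ 𝟙 S = 𝟙 S ≫ (Yα (bis c) αu).map (Quiver.Hom.op f)
      rw [botTerminal.hom_ext (Quiver.Hom.op f) (𝟙 (bot DS)), CategoryTheory.Functor.map_id,
        CategoryTheory.Functor.map_id]
      rfl

instance isIso_jAxis (i : (WithInitial DS)ᵒᵖ) : IsIso ((jAxis c).app i) := by
  obtain ⟨n | _⟩ := i
  · exact inferInstanceAs (IsIso (𝟙 (L.obj (op n)).left))
  · exact inferInstanceAs (IsIso (𝟙 S))

theorem descent_bis (hc : ∀ x, IsUnivCohDescentMap (c.app (op x)).left) (hL : IsCohDescentTop (Fam L)) :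
    IsCohDescentTop (Yα (bis c) αd) := by
  refine descent_diag (bis c) (fun x => isCohDescentTop_of_iso (jRow c x) ?_) (isCohDescentTop_of_iso (jAxis c) hL)
  haveI : ∀ i, IsIso ((cechBC (c.app (op x)).left (𝟙 _)).app i) :=
    fun i => (isPullback_cechBC (c.app (op x)).left (𝟙 _) i).isIso_fst_of_isIso
  exact isCohDescentTop_of_iso (cechBC (c.app (op x)).left (𝟙 _)) (hc x _ (𝟙 _))

/-- The diagonal. -/
abbrev dg : (WithInitial DS)ᵒᵖ ⥤ TopCat.{u} := Yα (bis c) αd

theorem dg_eps (n : DS) :
    (dg c).map (botTerminal.from (idx n)) = wb (c.app (op n)).left n ≫ lh (L := L) n := by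
  change wb (c.app (op n)).left n ≫ eA (c.app (op n)).left (bot DS) ≫ lh (L := L) n = _
  rw [eA_bot]
  exact congrArg (wb (c.app (op n)).left n ≫ ·) (Category.id_comp _)

theorem dg_π {n m : DS} (f : n ⟶ m) (i : Fin (n.len + 1)) :
    (dg c).map ((toAug DS).map f.op) ≫ wπ (c.app (op n)).left n i =
      wπ (c.app (op m)).left m (f.toOrderHom i) ≫ (L'.map f.op).left := by
  change ((cechAug (c.app (op m)).left).map (WithInitial.incl.map f).op ≫
    ((nerveF c).map f.op).app (idx n)) ≫ wπ (c.app (op n)).left n i = _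
  rw [Category.assoc]
  refine (congrArg (_ ≫ ·) (WidePullback.lift_π _ _ _ _ _)).trans ?_
  rw [← Category.assoc]
  exact congrArg (· ≫ _) (wM_π _ f i)

theorem dg_base {n m : DS} (f : n ⟶ m) :
    (dg c).map ((toAug DS).map f.op) ≫ wb (c.app (op n)).left n =
      wb (c.app (op m)).left m ≫ (L.map f.op).left := by
  change ((cechAug (c.app (op m)).left).map (WithInitial.incl.map f).op ≫
    ((nerveF c).map f.op).app (idx n)) ≫ wb (c.app (op n)).left n = _
  rw [Category.assoc]
  refine (congrArg (_ ≫ ·) (WidePullback.lift_base _ _ _ _)).trans ?_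
  rw [← Category.assoc]
  exact congrArg (· ≫ _) (wM_base _ f)

/-- The diagonal over the base. -/
abbrev dgS : SimplicialObject (Over S) := toSimp (dg c)

/-- The first projection. -/
def π₀ (n : DS) : (dgS c).obj (op n) ⟶ L'.obj (op n) :=
  Over.homMk (wπ (c.app (op n)).left n 0) (by
    change wπ (c.app (op n)).left n 0 ≫ (L'.obj (op n)).hom = (dg c).map (botTerminal.from (idx n))
    rw [dg_eps, ← Over.w (c.app (op n)), ← Category.assoc]
    exact congrArg (· ≫ _) (WidePullback.π_arrow _ _))

/-- The diagonal map. -/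
def secN (n : DS) : L'.obj (op n) ⟶ (dgS c).obj (op n) :=
  Over.homMk (WidePullback.lift (c.app (op n)).left (fun _ => 𝟙 _) (fun _ => Category.id_comp _)) (by
    change _ ≫ (dg c).map (botTerminal.from (idx n)) = (L'.obj (op n)).hom
    rw [dg_eps, ← Over.w (c.app (op n)), ← Category.assoc]
    exact congrArg (· ≫ _) (WidePullback.lift_base _ _ _ _))

theorem secN_π₀ (n : DS) : secN c n ≫ π₀ c n = 𝟙 _ :=
  Over.OverMorphism.ext (WidePullback.lift_π _ _ _ _ _)

/-- The diagonal maps. -/
def sec : L' ⟶ dgS c where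
  app n := secN c n.unop
  naturality n m g := by
    apply Over.OverMorphism.ext
    change (L'.map g).left ≫ WidePullback.lift _ _ _ = WidePullback.lift _ _ _ ≫ (dg c).map ((toAug DS).map g)
    apply w_ext
    · intro j
      rw [Category.assoc, Category.assoc]
      refine (congrArg (_ ≫ ·) (WidePullback.lift_π _ _ _ _ _)).trans ((Category.comp_id _).trans ?_)
      refine Eq.trans ?_ (congrArg (_ ≫ ·) (dg_π c g.unop j)).symm
      rw [← Category.assoc]
      exact ((congrArg (· ≫ _) (WidePullback.lift_π _ _ _ _ _)).trans (Category.id_comp _)).symm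
    · rw [Category.assoc, Category.assoc]
      refine (congrArg (_ ≫ ·) (WidePullback.lift_base _ _ _ _)).trans ?_
      refine Eq.trans ?_ (congrArg (_ ≫ ·) (dg_base c g.unop)).symm
      rw [← Category.assoc]
      refine Eq.trans ?_ (congrArg (· ≫ _) (WidePullback.lift_base _ _ _ _)).symm
      exact congrArg Over.Hom.left (c.naturality g)

theorem π₀_natural {m : ℕ} (hiso : ∀ k : DS, k.len < m → IsIso (c.app (op k))) {n n' : DS} (hn : n.len ≤ m)
    (f : n' ⟶ n) : (dgS c).map f.op ≫ π₀ c n' = π₀ c n ≫ L'.map f.op := by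
  apply Over.OverMorphism.ext
  refine (dg_π c f 0).trans ?_
  by_cases hf : Function.Surjective f.toOrderHom
  · obtain ⟨a, ha⟩ := hf 0
    have h0 : f.toOrderHom 0 = 0 := le_antisymm ((f.toOrderHom.monotone (Fin.zero_le a)).trans_eq ha) (Fin.zero_le _)
    rw [h0]
    rfl
  · obtain ⟨k, rfl⟩ : ∃ k : ℕ, n = ⦋k + 1⦌ := by
      obtain ⟨_ | k⟩ := n
      · exact (hf fun y => ⟨0, Subsingleton.elim (α := Fin 1) _ _⟩).elim
      · exact ⟨k, rfl⟩
    obtain ⟨a, r, rfl⟩ := SimplexCategory.eq_comp_δ_of_not_surjective f hf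
    rw [op_comp, L'.map_comp]
    change wπ (c.app (op ⦋k + 1⦌)).left ⦋k + 1⦌ _ ≫ (L'.map (δ a).op).left ≫ (L'.map r.op).left =
      wπ (c.app (op ⦋k + 1⦌)).left ⦋k + 1⦌ 0 ≫ (L'.map (δ a).op).left ≫ (L'.map r.op).left
    rw [← Category.assoc, ← Category.assoc]
    refine congrArg (· ≫ _) ?_
    haveI := hiso ⦋k⦌ (Nat.lt_of_succ_le hn)
    haveI : IsIso (c.app (op ⦋k⦌)).left := inferInstanceAs (IsIso ((Over.forget S).map (c.app (op ⦋k⦌))))
    rw [← cancel_mono (c.app (op ⦋k⦌)).left, Category.assoc, Category.assoc]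
    have e : (L'.map (δ a).op).left ≫ (c.app (op ⦋k⦌)).left =
        (c.app (op ⦋k + 1⦌)).left ≫ (L.map (δ a).op).left := congrArg Over.Hom.left (c.naturality (δ a).op)
    rw [e, ← Category.assoc, ← Category.assoc]
    exact congrArg (· ≫ _) ((WidePullback.π_arrow _ _).trans (WidePullback.π_arrow _ _).symm)

/-- A simplicial space over one of descent, by levelwise universal descent, is of descent if it is coskeletal
in the degree where they start to differ. -/
theorem descent_step (m : ℕ) [L'.IsCoskeletal m] (hiso : ∀ k : DS, k.len < m → IsIso (c.app (op k)))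
    (hc : ∀ x, IsUnivCohDescentMap (c.app (op x)).left) (hL : IsCohDescentTop (Fam L)) :
    IsCohDescentTop (Fam L') := by
  let αt : (SimplexCategory.Truncated.inclusion m).op ⋙ dgS c ⟶ (SimplexCategory.Truncated.inclusion m).op ⋙ L' :=
    { app := fun d => π₀ c d.unop.obj
      naturality := fun d d' g => π₀_natural c hiso d.unop.property g.unop.hom }
  let r : dgS c ⟶ L' := L'.liftOfIsRightKanExtension (𝟙 _) (dgS c) αt
  have hsr : sec c ≫ r = 𝟙 L' := by
    refine L'.hom_ext_of_isRightKanExtension (𝟙 ((SimplexCategory.Truncated.inclusion m).op ⋙ L')) _ _ ?_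
    ext d : 2
    have h := congrArg (fun t => t.app d) (L'.liftOfIsRightKanExtension_fac (𝟙 _) (dgS c) αt)
    change r.app _ ≫ 𝟙 _ = π₀ c d.unop.obj at h
    rw [Category.comp_id] at h
    change (secN c d.unop.obj ≫ r.app _) ≫ 𝟙 _ = 𝟙 _ ≫ 𝟙 _
    rw [h, secN_π₀]
  refine descent_of_retract (famMap (sec c)) (famMap r) ?_ (descent_toSimp (dg c) (descent_bis c hc hL))
  rw [← famMap_comp, hsr, famMap_id]

end Groth.Agent.FibHyper8
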