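import Groth.Agent.Lib.FibHyper8.Bisimp
import Mathlib.CategoryTheory.Limits.Constructions.Over.Basic
import Mathlib.CategoryTheory.Limits.Shapes.FiniteLimits
import Mathlib.AlgebraicTopology.SimplexCategory.Basic

/-!
# Universal descent of the maps between coskeleta
-/

set_option autoImplicit false
set_option backward.isDefEq.respectTransparency false
set_option backward.isDefEq.respectTransparency.types false
set_option maxHeartbeats 1000000

universe u

open CategoryTheory CategoryTheory.Limits Opposite FibDesc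
open SimplexCategory
open scoped Simplicial
open Groth.Agent.FibSplit8 Groth.Agent.FibDouble8

noncomputable section

namespace Groth.Agent.FibHyper8

local notation "DS" => SimplexCategory

theorem isUniv_widePullback {Z : TopCat.{u}} :
    ∀ (n : ℕ) (B : Fin n → TopCat.{u}) (b : ∀ i, B i ⟶ Z), (∀ i, IsUnivCohDescentMap (b i)) →
      IsUnivCohDescentMap (WidePullback.base b) := by
  intro n
  induction n with
  | zero =>
    intro B b _
    exact isUnivCohDescentMap_of_section _ (WidePullback.lift (𝟙 Z) (fun i => i.elim0) (fun i => i.elim0))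
      (WidePullback.lift_base _ _ _ _)
  | succ n ih =>
    intro B b hb
    let t := fun i : Fin n => b i.succ
    let p := pullback.fst (b 0) (WidePullback.base t)
    let q := pullback.snd (b 0) (WidePullback.base t)
    have hp : IsUnivCohDescentMap (p ≫ b 0) :=
      isUniv_comp p (b 0) (isUniv_of_isPullback (IsPullback.of_hasPullback (b 0) (WidePullback.base t)).flip
        (ih _ t fun i => hb i.succ)) (hb 0)
    let f : pullback (b 0) (WidePullback.base t) ⟶ widePullback Z B b := WidePullback.lift (p ≫ b 0)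
      (Fin.cases p (fun i => q ≫ WidePullback.π t i)) (fun i => by
        induction i using Fin.cases with
        | zero => rfl
        | succ i =>
          rw [Fin.cases_succ, Category.assoc]
          exact (congrArg (q ≫ ·) (WidePullback.π_arrow t i)).trans pullback.condition.symm)
    have e : f ≫ WidePullback.base b = p ≫ b 0 := WidePullback.lift_base _ _ _ _
    exact isUniv_of_comp f _ (e.symm ▸ hp)

variable {S : TopCat.{u}}

instance isIso_left {K L : Over S} (f : K ⟶ L) [IsIso f] : IsIso f.left :=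
  inferInstanceAs (IsIso ((Over.forget S).map f))

theorem isIso_of_left {K L : Over S} (f : K ⟶ L) [IsIso f.left] : IsIso f :=
  haveI : IsIso ((Over.forget S).map f) := ‹IsIso f.left›
  isIso_of_reflects_iso f (Over.forget S)

instance finiteObj (m : ℕ) (q : DS) : Finite (StructuredArrow (op q) (SimplexCategory.Truncated.inclusion m).op) := by
  refine Finite.of_surjective (α := Σ k : Fin (m + 1), (⦋k.val⦌ ⟶ q))
    (fun p => StructuredArrow.mk (Y := op (⟨⦋p.1.val⦌, Nat.lt_succ_iff.1 p.1.isLt⟩ :
      SimplexCategory.Truncated m)) p.2.op) ?_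
  rintro ⟨⟨⟨⟩⟩, ⟨⟨⟨k⟩, hk⟩⟩, θ⟩
  exact ⟨⟨⟨k, Nat.lt_succ_of_le hk⟩, θ.unop⟩, rfl⟩

instance finCat (m : ℕ) (q : DS) : FinCategory (StructuredArrow (op q) (SimplexCategory.Truncated.inclusion m).op) := by
  haveI : ∀ j j' : StructuredArrow (op q) (SimplexCategory.Truncated.inclusion m).op, Finite (j ⟶ j') := fun j j' =>
    Finite.of_injective (fun φ => (φ.right.unop.hom : j'.right.unop.obj ⟶ j.right.unop.obj))
      (fun φ ψ h => StructuredArrow.hom_ext _ _ (Quiver.Hom.unop_inj (ObjectProperty.hom_ext _ h)))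
  exact @FinCategory.mk _ _ (Fintype.ofFinite _) fun j j' => Fintype.ofFinite _

instance hasPtwise (m : ℕ) (F : (SimplexCategory.Truncated m)ᵒᵖ ⥤ Over S) :
    (SimplexCategory.Truncated.inclusion m).op.HasPointwiseRightKanExtension F := fun q => by
  obtain ⟨q⟩ := q
  infer_instance

variable (C : SimplicialObject (Over S)) (m : ℕ) [C.IsCoskeletal m]

/-- Maps to a coskeletal object are determined in low degrees. -/
theorem cosk_hom_ext {T : Over S} {q : DS} {h h' : T ⟶ C.obj (op q)}
    (e : ∀ (k : DS), k.len ≤ m → ∀ θ : k ⟶ q, h ≫ C.map θ.op = h' ≫ C.map θ.op) : h = h' :=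
  ((Functor.isPointwiseRightKanExtensionOfIsRightKanExtension C
    (𝟙 ((SimplexCategory.Truncated.inclusion m).op ⋙ C))) (op q)).hom_ext fun w => by
      change h ≫ C.map w.hom ≫ 𝟙 _ = h' ≫ C.map w.hom ≫ 𝟙 _
      rw [Category.comp_id]
      exact e w.right.unop.obj w.right.unop.property w.hom.unop

theorem cosk_exists_lift {T : Over S} {q : DS} (y : ∀ (k : DS), k.len ≤ m → (k ⟶ q) → (T ⟶ C.obj (op k)))
    (hy : ∀ (k k' : DS) (hk : k.len ≤ m) (hk' : k'.len ≤ m) (φ : k' ⟶ k) (θ : k ⟶ q),
      y k hk θ ≫ C.map φ.op = y k' hk' (φ ≫ θ)) :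
    ∃ h : T ⟶ C.obj (op q), ∀ (k : DS) (hk : k.len ≤ m) (θ : k ⟶ q), h ≫ C.map θ.op = y k hk θ := by
  have hl := (Functor.isPointwiseRightKanExtensionOfIsRightKanExtension C
    (𝟙 ((SimplexCategory.Truncated.inclusion m).op ⋙ C))) (op q)
  let s : Cone (StructuredArrow.proj (op q) (SimplexCategory.Truncated.inclusion m).op ⋙
      ((SimplexCategory.Truncated.inclusion m).op ⋙ C)) :=
    { pt := T
      π := { app := fun w => y w.right.unop.obj w.right.unop.property w.hom.unop
             naturality := fun w w' φ => by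
               refine (Category.id_comp _).trans (Eq.trans ?_
                 (hy w.right.unop.obj w'.right.unop.obj w.right.unop.property w'.right.unop.property
                   φ.right.unop.hom w.hom.unop).symm)
               exact congrArg (y _ _) (congrArg Quiver.Hom.unop (StructuredArrow.w φ)).symm } }
  refine ⟨hl.lift s, fun k hk θ => ?_⟩
  have h := hl.fac s (StructuredArrow.mk (Y := op (⟨k, hk⟩ : SimplexCategory.Truncated m)) θ.op)
  change hl.lift s ≫ C.map θ.op ≫ 𝟙 _ = y k hk θ at h
  rwa [Category.comp_id] at h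

theorem eq_id_of_iso {x : DS} (g : x ⟶ x) [Mono g] : g = 𝟙 x := SimplexCategory.eq_id_of_mono g

variable {C m} {L : SimplicialObject (Over S)} (c : C ⟶ L)

theorem isUniv_cosk
    (hiso : ∀ k : DS, k.len < m → IsIso (c.app (op k)))
    (hm : IsUnivCohDescentMap (c.app (op ⦋m⦌)).left)
    (hL : ∀ (T : Over S) (p : DS) (h h' : T ⟶ L.obj (op p)),
      (∀ k : DS, k.len < m → ∀ θ : k ⟶ p, h ≫ L.map θ.op = h' ≫ L.map θ.op) → h = h')
    (p : DS) : IsUnivCohDescentMap (c.app (op p)).left := by
  classical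
  let J : Type := {θ : ⦋m⦌ ⟶ p // Mono θ}
  haveI : Finite J := inferInstance
  obtain ⟨n, ⟨eJ⟩⟩ := Finite.exists_equiv_fin J
  let Z := (L.obj (op p)).left
  let cm := (c.app (op ⦋m⦌)).left
  let Bf : J → TopCat.{u} := fun j => pullback cm (L.map j.1.op).left
  let bf : ∀ j, Bf j ⟶ Z := fun j => pullback.snd cm (L.map j.1.op).left
  let b : ∀ i : Fin n, Bf (eJ.symm i) ⟶ Z := fun i => bf (eJ.symm i)
  have hb := isUniv_widePullback n _ b fun i => isUniv_of_isPullback (IsPullback.of_hasPullback _ _) hm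
  let Q : Over S := Over.mk (WidePullback.base b ≫ (L.obj (op p)).hom)
  let base : Q ⟶ L.obj (op p) := Over.homMk (WidePullback.base b)
  let x : J → (Q ⟶ C.obj (op ⦋m⦌)) := fun j => Over.homMk
    (WidePullback.π b (eJ j) ≫ eqToHom (congrArg Bf (eJ.symm_apply_apply j)) ≫ pullback.fst cm (L.map j.1.op).left) (by
      change _ = WidePullback.base b ≫ (L.obj (op p)).hom
      rw [← Over.w (c.app (op ⦋m⦌)), ← Over.w (L.map j.1.op), Category.assoc, Category.assoc]
      rw [← WidePullback.π_arrow b (eJ j), Category.assoc]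
      refine congrArg (_ ≫ ·) ?_
      have : ∀ (j' : J) (e : j' = j), eqToHom (congrArg Bf e) ≫ pullback.fst cm (L.map j.1.op).left ≫ cm ≫
          (L.obj (op ⦋m⦌)).hom = bf j' ≫ (L.map j.1.op).left ≫ (L.obj (op ⦋m⦌)).hom := by
        rintro _ rfl
        rw [eqToHom_refl, Category.id_comp, ← Category.assoc, pullback.condition, Category.assoc]
      exact this _ (eJ.symm_apply_apply j))
  have hx : ∀ j : J, x j ≫ c.app (op ⦋m⦌) = base ≫ L.map j.1.op := fun j => by
    apply Over.OverMorphism.ext
    change (WidePullback.π b (eJ j) ≫ _ ≫ _) ≫ cm = WidePullback.base b ≫ (L.map j.1.op).left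
    rw [← WidePullback.π_arrow b (eJ j), Category.assoc, Category.assoc, Category.assoc]
    refine congrArg (_ ≫ ·) ?_
    have : ∀ (j' : J) (e : j' = j), eqToHom (congrArg Bf e) ≫ pullback.fst cm (L.map j.1.op).left ≫ cm =
        bf j' ≫ (L.map j.1.op).left := by
      rintro _ rfl
      rw [eqToHom_refl, Category.id_comp, pullback.condition]
    exact this _ (eJ.symm_apply_apply j)
  have hXi : ∀ {j : DS} (i : j ⟶ p) [Mono i], j.len ≤ m →
      ∃ z : Q ⟶ C.obj (op j), z ≫ c.app (op j) = base ≫ L.map i.op ∧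
        ∀ hj : j = ⦋m⦌, ∀ θ : J, eqToHom hj ≫ θ.1 = i → z ≫ C.map (eqToHom hj.symm).op = x θ := by
    intro j i _ hj
    rcases Nat.lt_or_eq_of_le hj with h | h
    · haveI := hiso j h
      exact ⟨base ≫ L.map i.op ≫ inv (c.app (op j)), by simp, fun e => absurd h (by rw [e]; simp)⟩
    · obtain rfl : j = ⦋m⦌ := SimplexCategory.ext h
      refine ⟨x ⟨i, inferInstance⟩, hx _, fun e θ he => ?_⟩
      rw [eqToHom_refl, op_id, C.map_id, Category.comp_id]
      rw [eqToHom_refl, Category.id_comp] at he
      exact congrArg x (Subtype.ext he.symm)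
  choose Xi hXc hXx using @hXi
  have hXi_comp : ∀ {j j' : DS} (i : j ⟶ p) [Mono i] (hj : j.len ≤ m) (g : j' ⟶ j) [Mono g] (hj' : j'.len ≤ m),
      Xi i hj ≫ C.map g.op = @Xi j' (g ≫ i) (mono_comp g i) hj' := by
    intro j j' i _ hj g _ hj'
    by_cases e : j' = j
    · subst e
      have key : ∀ (i₁ i₂ : j' ⟶ p) (h₁ : Mono i₁) (h₂ : Mono i₂), i₁ = i₂ → @Xi j' i₁ h₁ hj = @Xi j' i₂ h₂ hj' := by
        rintro i₁ _ h₁ h₂ rfl; rfl
      have hg : g = 𝟙 _ := SimplexCategory.eq_id_of_mono g
      refine ((congrArg (fun t => Xi i hj ≫ C.map (Quiver.Hom.op t)) hg).trans ?_).trans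
        (key i (g ≫ i) inferInstance (mono_comp g i) (by rw [hg, Category.id_comp]))
      rw [op_id, C.map_id, Category.comp_id]
    · have hlt : j'.len < m := by
        have h1 := SimplexCategory.len_le_of_mono g
        have h2 : j'.len ≠ j.len := fun h => e (SimplexCategory.ext h)
        omega
      haveI := hiso j' hlt
      rw [← cancel_mono (c.app (op j')), Category.assoc, c.naturality, ← Category.assoc, hXc, hXc, Category.assoc,
        ← L.map_comp]
      rfl
  let y : ∀ k : DS, k.len ≤ m → (k ⟶ p) → (Q ⟶ C.obj (op k)) := fun k hk θ =>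
    Xi (image.ι θ) ((SimplexCategory.len_le_of_epi (factorThruImage θ)).trans hk) ≫ C.map (factorThruImage θ).op
  have hfac : ∀ {k j : DS} (hk : k.len ≤ m) (θ : k ⟶ p) (e : k ⟶ j) [Epi e] (i : j ⟶ p) [Mono i] (hj : j.len ≤ m),
      e ≫ i = θ → y k hk θ = Xi i hj ≫ C.map e.op := by
    intro k j hk θ e _ i _ hj hθ
    obtain rfl : image θ = j := SimplexCategory.image_eq hθ
    obtain rfl : image.ι θ = i := SimplexCategory.image_ι_eq hθ
    obtain rfl : factorThruImage θ = e := SimplexCategory.factorThruImage_eq hθ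
    rfl
  have hy : ∀ (k k' : DS) (hk : k.len ≤ m) (hk' : k'.len ≤ m) (φ : k' ⟶ k) (θ : k ⟶ p),
      y k hk θ ≫ C.map φ.op = y k' hk' (φ ≫ θ) := by
    intro k k' hk hk' φ θ
    let ψ := φ ≫ factorThruImage θ
    have h₁ : (image θ).len ≤ m := (SimplexCategory.len_le_of_epi (factorThruImage θ)).trans hk
    have h₂ : (image ψ).len ≤ m := (SimplexCategory.len_le_of_epi (factorThruImage ψ)).trans hk'
    rw [hfac hk' (φ ≫ θ) (factorThruImage ψ) (image.ι ψ ≫ image.ι θ) h₂
      (by rw [image.fac_assoc]; simp [ψ, image.fac]), ← hXi_comp (image.ι θ) h₁ (image.ι ψ) h₂]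
    simp only [y, Category.assoc, ← C.map_comp, ← op_comp]
    rw [image.fac]
  obtain ⟨G, hG⟩ := cosk_exists_lift C m y hy
  have hGc : G ≫ c.app (op p) = base := by
    refine hL Q p _ _ fun k hk θ => ?_
    rw [Category.assoc, ← c.naturality, ← Category.assoc, hG k hk.le θ, Category.assoc, c.naturality,
      ← Category.assoc, hXc, Category.assoc, ← L.map_comp, ← op_comp, image.fac]
  have e : G.left ≫ (c.app (op p)).left = WidePullback.base b := congrArg Over.Hom.left hGc
  exact isUniv_of_comp G.left _ (e.symm ▸ hb)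

/-- The coskeleton of a hypercovering one level up. -/
theorem descent_next (hiso : ∀ k : DS, k.len < m → IsIso (c.app (op k)))
    (hm : IsUnivCohDescentMap (c.app (op ⦋m⦌)).left)
    (hL : ∀ (T : Over S) (p : DS) (h h' : T ⟶ L.obj (op p)),
      (∀ k : DS, k.len < m → ∀ θ : k ⟶ p, h ≫ L.map θ.op = h' ≫ L.map θ.op) → h = h')
    (hd : IsCohDescentTop (Fam L)) : IsCohDescentTop (Fam C) :=
  descent_step c m hiso (fun x => isUniv_cosk c hiso hm hL x) hd

end Groth.Agent.FibHyper8
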