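import Groth.Agent.Lib.FibHyper8.Prep
import Groth.Agent.Lib.FibDouble8.Index

/-!
# The diagonal of a doubly simplicial family
-/

set_option autoImplicit false
set_option backward.isDefEq.respectTransparency false
set_option backward.isDefEq.respectTransparency.types false
set_option maxHeartbeats 1000000

universe u

open CategoryTheory CategoryTheory.Limits Opposite TopologicalSpace Pseudofunctor.CoGrothendieck FibDesc
open SimplexCategory
open scoped Simplicial
open Groth.Agent.FibSplit8 Groth.Agent.FibLocal8 Groth.Agent.RFPlus Groth.Agent.FibProper8 Groth.Agent.FibDouble8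

noncomputable section

namespace Groth.Agent.FibHyper8

local notation "DS" => SimplexCategory
local notation "cS" => ComplexShape.up ℤ

/-- The diagonal. -/
def αd : WithInitial DS ⥤ WithInitial (E2 DS DS) :=
  WithInitial.map ((WithInitial.incl (C := DS)).prod' (WithInitial.incl (C := DS)))

/-- A pair of maps of simplices as an arrow to the diagonal. -/
def pairHom {x y n : DS} (a : n ⟶ x) (b : n ⟶ y) :
    op (WithInitial.of ((WithInitial.of x, WithInitial.of y) : E2 DS DS)) ⟶ (β αd).obj (op n) :=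
  (WithInitial.incl.map ((WithInitial.incl.map a, WithInitial.incl.map b) :
    (WithInitial.of n, WithInitial.of n) ⟶ (WithInitial.of x, WithInitial.of y))).op

theorem exists_pairHom {i : (WithInitial (E2 DS DS))ᵒᵖ} {n : DS} (g : i ⟶ (β αd).obj (op n)) :
    QW i := by
  obtain ⟨⟨x, y⟩ | _⟩ := i
  rotate_left
  · exact (g.unop : PEmpty).elim
  cases x with
  | star => exact ((WithInitial.down g.unop : (WithInitial.of n, WithInitial.of n) ⟶ (WithInitial.star, y)).1 : PEmpty).elim
  | of x =>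
    cases y with
    | star => exact ((WithInitial.down g.unop : (WithInitial.of n, WithInitial.of n) ⟶ (WithInitial.of x, WithInitial.star)).2 : PEmpty).elim
    | of y => trivial

theorem pairHom_surjective {x y n : DS}
    (g : op (WithInitial.of ((WithInitial.of x, WithInitial.of y) : E2 DS DS)) ⟶ (β αd).obj (op n)) :
    ∃ a b, g = pairHom a b :=
  ⟨WithInitial.down (WithInitial.down g.unop : (WithInitial.of n, WithInitial.of n) ⟶ (WithInitial.of x, WithInitial.of y)).1,
    WithInitial.down (WithInitial.down g.unop : (WithInitial.of n, WithInitial.of n) ⟶ (WithInitial.of x, WithInitial.of y)).2, rfl⟩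

theorem pairHom_inj {x y n : DS} {a a' : n ⟶ x} {b b' : n ⟶ y} (e : pairHom a b = pairHom a' b') :
    a = a' ∧ b = b' := by
  have h := Quiver.Hom.op_inj e
  have h' : ((WithInitial.incl.map a, WithInitial.incl.map b) :
      (WithInitial.of n, WithInitial.of n) ⟶ (WithInitial.of x, WithInitial.of y)) =
      (WithInitial.incl.map a', WithInitial.incl.map b') := WithInitial.incl.map_injective h
  exact ⟨WithInitial.incl.map_injective (congrArg Prod.fst h'), WithInitial.incl.map_injective (congrArg Prod.snd h')⟩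

theorem pairHom_comp {x y n m : DS} (a : n ⟶ x) (b : n ⟶ y) (f : m ⟶ n) :
    pairHom a b ≫ (β αd).map f.op = pairHom (f ≫ a) (f ≫ b) := rfl

theorem nonempty_prep : Nonempty (Prep αd) := by
  classical
  have h : ∀ {i : (WithInitial (E2 DS DS))ᵒᵖ} {n : ℕ} (g : i ⟶ (β αd).obj (op ⦋n⦌)),
      ∃ g' : i ⟶ (β αd).obj (op ⦋n + 1⦌), ∀ (x y : DS) (hi : i = op (WithInitial.of (WithInitial.of x, WithInitial.of y))),
        ∀ a b, eqToHom hi.symm ≫ g = pairHom a b → eqToHom hi.symm ≫ g' = pairHom (prep a) (prep b) := by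
    intro i n g
    have hi := exists_pairHom g
    obtain ⟨⟨x, y⟩ | _⟩ := i
    rotate_left
    · exact hi.elim
    cases x with
    | star => exact hi.elim
    | of x =>
      cases y with
      | star => exact hi.elim
      | of y =>
        obtain ⟨a, b, rfl⟩ := pairHom_surjective g
        refine ⟨pairHom (prep a) (prep b), fun x' y' hi' a' b' e => ?_⟩
        cases hi'
        simp only [eqToHom_refl, Category.id_comp] at e ⊢
        obtain ⟨ea, eb⟩ := pairHom_inj e
        rw [ea, eb]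
  choose pr hpr using @h
  refine ⟨⟨fun {i n} g => pr g, fun {i n} g => ?_, fun {i n} g j => ?_⟩⟩
  all_goals
    have hi := exists_pairHom g
    obtain ⟨⟨x, y⟩ | _⟩ := i
    rotate_left
    · exact hi.elim
    cases x with
    | star => exact hi.elim
    | of x =>
      cases y with
      | star => exact hi.elim
      | of y =>
        obtain ⟨a, b, rfl⟩ := pairHom_surjective g
        have e := hpr (pairHom a b) x y rfl a b (Category.id_comp _)
        rw [eqToHom_refl, Category.id_comp] at e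
        first
          | (rw [e, pairHom_comp, δ_zero_prep, δ_zero_prep])
          | (have e' := hpr (pairHom (δ j ≫ a) (δ j ≫ b)) x y rfl (δ j ≫ a) (δ j ≫ b) (Category.id_comp _)
             rw [eqToHom_refl, Category.id_comp] at e'
             rw [e, pairHom_comp, pairHom_comp, δ_succ_prep, δ_succ_prep, e'])

theorem exists_vertices {i : (WithInitial (E2 DS DS))ᵒᵖ} (hi : QW i) :
    ∃ h₀ : i ⟶ (β αd).obj (op ⦋0⦌), ∀ h : i ⟶ (β αd).obj (op ⦋0⦌), ∃ w : i ⟶ (β αd).obj (op ⦋1⦌),
      w ≫ (β αd).map (δ (1 : Fin 2)).op = h₀ ∧ w ≫ (β αd).map (δ (0 : Fin 2)).op = h := by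
  obtain ⟨⟨x, y⟩ | _⟩ := i
  rotate_left
  · exact hi.elim
  cases x with
  | star => exact hi.elim
  | of x =>
    cases y with
    | star => exact hi.elim
    | of y =>
      refine ⟨pairHom (vtx x) (vtx y), fun h => ?_⟩
      obtain ⟨a, b, rfl⟩ := pairHom_surjective h
      have hedge : ∀ {z : DS} (a : ⦋0⦌ ⟶ z), ∃ w : ⦋1⦌ ⟶ z, δ (1 : Fin 2) ≫ w = vtx z ∧ δ (0 : Fin 2) ≫ w = a :=
        fun {z} a => ⟨SimplexCategory.mkOfLe 0 (a.toOrderHom 0) (Fin.zero_le _),
          SimplexCategory.Hom.ext _ _ (OrderHom.ext _ _ (funext fun k => by fin_cases k; rfl)),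
          SimplexCategory.Hom.ext _ _ (OrderHom.ext _ _ (funext fun k => by fin_cases k; rfl))⟩
      obtain ⟨wa, wa1, wa0⟩ := hedge a
      obtain ⟨wb, wb1, wb0⟩ := hedge b
      refine ⟨pairHom wa wb, ?_, ?_⟩
      · rw [pairHom_comp, wa1, wb1]
      · rw [pairHom_comp, wa0, wb0]

variable (P : (WithInitial (E2 DS DS))ᵒᵖ ⥤ TopCat.{u}) (J : BSh P QW.ι)


/-- The counit over the double part. -/
abbrev cj : (res P QW.ι).obj ((coe P QW.ι).obj J) ⟶ J := (adjB P QW.ι).counit.app J

theorem injective_cj (X : ∫ᶜ (BF P QW.ι)) : Function.Injective ((cj P J).hom.app (op X)) := by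
  haveI := K_full P (QW : ObjectProperty (WithInitial (E2 DS DS))ᵒᵖ).ι
  haveI := K_faithful P (QW : ObjectProperty (WithInitial (E2 DS DS))ᵒᵖ).ι
  haveI : IsIso (cj P J) := isIso_counit_adjB P QW.ι J
  haveI : IsIso ((cj P J).hom.app (op X)) :=
    inferInstanceAs (IsIso (((sheafToPresheaf _ _).map (cj P J)).app (op X)))
  exact (ConcreteCategory.bijective_of_isIso ((cj P J).hom.app (op X))).1

variable (U : Opens (((Yα P αd)).obj (bot DS)))

/-- The arrow to the lowest level attached to a pair of vertices. -/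
def mv {X : ∫ᶜ (topAug P)} (hX : ∀ f : X.base ⟶ αd.op.obj (bot DS), opn P X ≤ (Opens.map (P.map f)).obj U)
    (h : X.base ⟶ (β αd).obj (op ⦋0⦌)) : X ⟶ (Tpart P αd).obj (pb ((Yα P αd)) U ⦋0⦌) :=
  homMk P (a := X) (b := (Tpart P αd).obj (pb ((Yα P αd)) U ⦋0⦌)) h (by
    refine le_trans (hX (h ≫ αd.op.map (botTerminal.from (idx ⦋0⦌)))) (le_of_eq ?_)
    rw [P.map_comp, Opens.map_comp_obj]
    rfl)

theorem hX_of_hom {X : ∫ᶜ (topAug P)} (g : X ⟶ mkObj P (αd.op.obj (bot DS)) U)
    (f : X.base ⟶ αd.op.obj (bot DS)) : opn P X ≤ (Opens.map (P.map f)).obj U := by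
  rw [show f = g.base from botTerminal.hom_ext _ _]
  exact hom_le P g

/-- The arrow from the base to the lowest level. -/
def r₀ : (Tpart P αd).obj (pb ((Yα P αd)) U ⦋0⦌) ⟶ mkObj P (αd.op.obj (bot DS)) U :=
  (Tα P αd).map (toBot ((Yα P αd)) (idx ⦋0⦌) U)

theorem iota_rho' (y : ((coe P QW.ι).obj J).obj.obj (op (mkObj P (αd.op.obj (bot DS)) U))) :
    iota U ((rpart P αd).obj ((coe P QW.ι).obj J)) (((rho' P αd).app ((coe P QW.ι).obj J)).hom.app (op U) y) = ((coe P QW.ι).obj J).obj.map (r₀ P U).op y := by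
  have h := congrArg (fun t => t.hom.app (op (pb ((Yα P αd)) U ⦋0⦌)))
    ((FibLocal8.adjR ((Yα P αd))).left_triangle_components ((resα P αd).obj ((coe P QW.ι).obj J)))
  change ((FibLocal8.adjR ((Yα P αd))).counit.app _).hom.app _
    (((ccR ((Yα P αd))).obj _).obj.map _
      (((FibLocal8.adjR ((Yα P αd))).unit.app ((resα P αd).obj ((coe P QW.ι).obj J))).hom.app (op (mkObj ((Yα P αd)) (bot DS) U)) y)) = _
  refine (congrArg _ (NatTrans.naturality_apply ((FibLocal8.adjR (Yα P αd)).unit.app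
    ((resα P αd).obj ((coe P QW.ι).obj J))).hom (toBot (Yα P αd) (idx ⦋0⦌) U).op y).symm).trans ?_
  exact ConcreteCategory.congr_hom h _

variable (X : ∫ᶜ (topAug P))

theorem injective_r₀ : Function.Injective (((coe P QW.ι).obj J).obj.map (r₀ P U).op) := by
  intro y y' e
  let L := (K P (QW : ObjectProperty (WithInitial (E2 DS DS))ᵒᵖ).ι).op
  have hc := isLimitOfPreserves (forget AddCommGrpCat.{u})
    (Functor.isPointwiseRightKanExtensionRanCounit L J.obj (op (mkObj P (αd.op.obj (bot DS)) U)))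
  refine (Types.isLimitEquivSections hc).injective (Subtype.ext (funext fun a => ?_))
  have hcounit : (cj P J).hom = L.ranCounit.app J.obj := by
    rw [Functor.sheafAdjunctionCocontinuous_counit_app_hom, Functor.ranAdjunction_counit]
  obtain ⟨h₀, -⟩ := exists_vertices a.right.unop.base.property
  have ha : a.hom = (r₀ P U).op ≫ (mv P U (hX_of_hom P U a.hom.unop) h₀).op :=
    Quiver.Hom.unop_inj (hom_ext P (botTerminal.hom_ext _ _))
  change (L.ranCounit.app J.obj).app a.right (((coe P QW.ι).obj J).obj.map a.hom y) =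
    (L.ranCounit.app J.obj).app a.right (((coe P QW.ι).obj J).obj.map a.hom y')
  rw [ha, ((coe P QW.ι).obj J).obj.map_comp, ConcreteCategory.comp_apply, ConcreteCategory.comp_apply, e]

theorem mv_eq (z : val ((rpart P αd).obj ((coe P QW.ι).obj J)) U 0) (hz : dv ((rpart P αd).obj ((coe P QW.ι).obj J)) U 0 z = 0)
    {X : ∫ᶜ (topAug P)} (hX : ∀ f : X.base ⟶ αd.op.obj (bot DS), opn P X ≤ (Opens.map (P.map f)).obj U)
    (hW : QW X.base) (h h' : X.base ⟶ (β αd).obj (op ⦋0⦌)) :
    ((coe P QW.ι).obj J).obj.map (mv P U hX h).op z = ((coe P QW.ι).obj J).obj.map (mv P U hX h').op z := by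
  rw [dv_apply, Fin.sum_univ_two] at hz
  change (-1 : ℤ) ^ 0 • ((coe P QW.ι).obj J).obj.map ((Tpart P αd).map (cof ((Yα P αd)) U (δ (0 : Fin 2)))).op z +
    (-1 : ℤ) ^ 1 • ((coe P QW.ι).obj J).obj.map ((Tpart P αd).map (cof ((Yα P αd)) U (δ (1 : Fin 2)))).op z = 0 at hz
  have h01 : ((coe P QW.ι).obj J).obj.map ((Tpart P αd).map (cof ((Yα P αd)) U (δ (0 : Fin 2)))).op z =
      ((coe P QW.ι).obj J).obj.map ((Tpart P αd).map (cof ((Yα P αd)) U (δ (1 : Fin 2)))).op z := by
    simpa [sub_eq_zero, ← sub_eq_add_neg] using hz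
  obtain ⟨h₀, hh⟩ := exists_vertices hW
  suffices key : ∀ h, ((coe P QW.ι).obj J).obj.map (mv P U hX h).op z = ((coe P QW.ι).obj J).obj.map (mv P U hX h₀).op z from (key h).trans (key h').symm
  intro h
  obtain ⟨w, w1, w0⟩ := hh h
  let mw : X ⟶ (Tpart P αd).obj (pb ((Yα P αd)) U ⦋1⦌) :=
    homMk P (a := X) (b := (Tpart P αd).obj (pb ((Yα P αd)) U ⦋1⦌)) w (by
      refine le_trans (hX (w ≫ αd.op.map (botTerminal.from (idx ⦋1⦌)))) (le_of_eq ?_)
      rw [P.map_comp, Opens.map_comp_obj]
      rfl)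
  have e0 : mv P U hX h = mw ≫ (Tpart P αd).map (cof ((Yα P αd)) U (δ (0 : Fin 2))) := hom_ext P w0.symm
  have e1 : mv P U hX h₀ = mw ≫ (Tpart P αd).map (cof ((Yα P αd)) U (δ (1 : Fin 2))) := hom_ext P w1.symm
  rw [e0, e1, op_comp, op_comp, Functor.map_comp, Functor.map_comp, ConcreteCategory.comp_apply,
    ConcreteCategory.comp_apply, h01]

theorem exists_r₀ (z : val ((rpart P αd).obj ((coe P QW.ι).obj J)) U 0) (hz : dv ((rpart P αd).obj ((coe P QW.ι).obj J)) U 0 z = 0) :
    ∃ y, ((coe P QW.ι).obj J).obj.map (r₀ P U).op y = z := by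
  let L := (K P (QW : ObjectProperty (WithInitial (E2 DS DS))ᵒᵖ).ι).op
  let x := op (mkObj P (αd.op.obj (bot DS)) U)
  have hc := isLimitOfPreserves (forget AddCommGrpCat.{u})
    (Functor.isPointwiseRightKanExtensionRanCounit L J.obj x)
  have hcounit : (cj P J).hom = L.ranCounit.app J.obj := by
    rw [Functor.sheafAdjunctionCocontinuous_counit_app_hom, Functor.ranAdjunction_counit]
  let hv : ∀ a : StructuredArrow x L, a.right.unop.base.obj ⟶ (β αd).obj (op ⦋0⦌) :=
    fun a => (exists_vertices a.right.unop.base.property).choose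
  let s : ((StructuredArrow.proj x L ⋙ J.obj) ⋙ forget _).sections :=
    ⟨fun a => (cj P J).hom.app a.right (((coe P QW.ι).obj J).obj.map (mv P U (hX_of_hom P U a.hom.unop) (hv a)).op z),
      fun {a b} m => by
        change J.obj.map m.right ((cj P J).hom.app a.right _) = (cj P J).hom.app b.right _
        rw [← NatTrans.naturality_apply]
        refine congrArg ((cj P J).hom.app b.right) ?_
        change ((coe P QW.ι).obj J).obj.map (L.map m.right) (((coe P QW.ι).obj J).obj.map _ z) = _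
        rw [← ConcreteCategory.comp_apply, ← Functor.map_comp]
        refine Eq.trans ?_ (mv_eq P J U z hz (hX_of_hom P U b.hom.unop) b.right.unop.base.property
          ((L.map m.right).unop.base ≫ hv a) (hv b))
        exact congrArg (fun t => ((coe P QW.ι).obj J).obj.map t z) (Quiver.Hom.unop_inj (hom_ext P rfl))⟩
  refine ⟨(Types.isLimitEquivSections hc).symm s, ?_⟩
  let X₀ : ∫ᶜ (BF P QW.ι) := mkB P QW.ι ⟨(β αd).obj (op ⦋0⦌), trivial⟩ (lev ((Yα P αd)) U ⦋0⦌)
  apply injective_cj P J X₀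
  let a₀ : StructuredArrow x L := StructuredArrow.mk (Y := op X₀) (r₀ P U).op
  have h := congrFun (congrArg Subtype.val ((Types.isLimitEquivSections hc).apply_symm_apply s)) a₀
  refine (Eq.trans ?_ h).trans ?_
  · exact ConcreteCategory.congr_hom (congrArg (fun t => t.app (op X₀)) hcounit) _
  · change (cj P J).hom.app (op X₀) (((coe P QW.ι).obj J).obj.map (mv P U (hX_of_hom P U (r₀ P U)) (hv a₀)).op z) = _
    refine congrArg ((cj P J).hom.app (op X₀)) ((mv_eq P J U z hz (hX_of_hom P U (r₀ P U)) (show QW ((β αd).obj (op ⦋0⦌)) from trivial) (hv a₀) (𝟙 _)).trans ?_)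
    rw [show mv P U (hX_of_hom P U (r₀ P U)) (𝟙 _) = 𝟙 _ from hom_ext P rfl, op_id]
    exact ConcreteCategory.congr_hom (((coe P QW.ι).obj J).obj.map_id _) z

theorem bijective_rho' : Function.Bijective (((rho' P αd).app ((coe P QW.ι).obj J)).hom.app (op U)) := by
  refine ⟨fun y y' e => injective_r₀ P J U ?_, fun w => ?_⟩
  · refine (iota_rho' P J U y).symm.trans ((congrArg (iota U _) e).trans (iota_rho' P J U y'))
  · obtain ⟨y, hy⟩ := exists_r₀ P J U (iota U _ w) (dv_iota U _ w)
    exact ⟨y, iota_injective U _ ((iota_rho' P J U y).trans hy)⟩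

theorem isIso_rho'_diag : IsIso ((rho' P αd).app ((coe P QW.ι).obj J)) := by
  refine @isIso_of_reflects_iso _ _ _ _ _ _ _ (sheafToPresheaf _ _) ?_ _
  exact @NatIso.isIso_of_isIso_app _ _ _ _ _ _ _ fun U =>
    (ConcreteCategory.isIso_iff_bijective _).2 (bijective_rho' P J U.unop)

theorem nonempty_homotopy_adjunct' {A B : Type*} [Category* A] [Abelian A] [Category* B] [Abelian B]
    {F : A ⥤ B} {G : B ⥤ A} [F.Additive] [G.Additive] (ad : F ⊣ G) {L : CochainComplex A ℤ}
    {J : CochainComplex B ℤ} {f g : (F.mapHomologicalComplex cS).obj L ⟶ J} (H : Homotopy f g) :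
    Nonempty (Homotopy (adjunct ad f) (adjunct ad g)) :=
  ⟨(Homotopy.ofEq (Adjunction.homEquiv_unit _ _ _ _)).trans (((G.mapHomotopy H).compLeft _).trans
    (Homotopy.ofEq (Adjunction.homEquiv_unit _ _ _ _).symm))⟩

/-- Descent of the diagonal from descent of the rows and the first axis. -/
theorem descent_diag (P : (WithInitial (E2 DS DS))ᵒᵖ ⥤ TopCat.{u})
    (hr : ∀ x : DS, IsCohDescentTop (Yα P (αr x))) (hu : IsCohDescentTop (Yα P αu)) :
    IsCohDescentTop (Yα P αd) := by
  refine descent_of_etaIso fun a i L hL J₂ hJ₂ge hJ₂ q₂ hq₂ => ?_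
  haveI := hq₂
  haveI := hL
  let ext := FibSite.extend (topAug P) (topAugTop P) AddCommGrpCat.{u} (bot (E2 DS DS))
  haveI : PreservesColimitsOfSize.{0, 0} ext := (adj₀ P).leftAdjoint_preservesColimits
  haveI := preservesBinaryBiproducts_of_preservesBinaryCoproducts ext
  haveI : ext.Additive := Functor.additive_of_preservesBinaryBiproducts ext
  let M := (ext.mapHomologicalComplex cS).obj L
  haveI : CochainComplex.IsStrictlyGE M a := CochainComplex.isStrictlyGE_iff _ _ |>.2 fun i hi =>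
    (show IsZero (ext.obj (L.X i)) from ext.map_isZero (CochainComplex.isZero_of_isStrictlyGE L a i hi))
  have hM : ∀ n, Cart P (M.X n) := fun n => cart_ext₀ P (L.X n)
  haveI : CochainComplex.IsStrictlyGE (((res P QW.ι).mapHomologicalComplex cS).obj M) a :=
    CochainComplex.isStrictlyGE_iff _ _ |>.2 fun i hi =>
      (show IsZero ((res P QW.ι).obj (M.X i)) from (res P QW.ι).map_isZero (CochainComplex.isZero_of_isStrictlyGE M a i hi))
  obtain ⟨J, q, hq, hJ, hJge⟩ := CochainComplex.Plus.modelCategoryQuillen.exists_quasiIso_injective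
    (((res P QW.ι).mapHomologicalComplex cS).obj M) a
  haveI := hq
  haveI : J.IsKInjective := CochainComplex.isKInjective_of_injective J a
  have hW : ∀ w, QW w → ∀ k, IsoAt P w (HomologicalComplex.homologyMap (eta M J q) k) :=
    fun w hw k => isoAt_eta M J q hw k
  have hrow : ∀ x k, IsoAt P ((αr x).op.obj (bot DS)) (HomologicalComplex.homologyMap (eta M J q) k) :=
    fun x k => isoAt_base M J q (αr x) hM a (hr x) (reaches_r x) le_rfl (good_r x)
      (fun n k => hW ((β (αr x)).obj n) (by trivial) k) k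
  have hbot : ∀ k, IsoAt P (αd.op.obj (bot DS)) (HomologicalComplex.homologyMap (eta M J q) k) :=
    fun k => isoAt_base M J q αu hM a hu reaches_u W_le_U good_u (fun n k => hrow n.unop k) k
  haveI := quasiIso_qα M J q αd hM fun n k => hW ((β αd).obj n) (by trivial) k
  haveI : IsIso (rhoC αd (((coe P QW.ι).mapHomologicalComplex cS).obj J)) :=
    haveI : ∀ p, IsIso ((rhoC αd (((coe P QW.ι).mapHomologicalComplex cS).obj J)).f p) :=
      fun p => isIso_rho'_diag P (J.X p)
    HomologicalComplex.Hom.isIso_of_components _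
  have hη : _root_.QuasiIso (FibLocal8.adjunct (FibDesc.adj (topAug (Yα P αd)) (topAugTop (Yα P αd)) AddCommGrpCat.{u})
      (qα M J q αd)) := by
    haveI : _root_.QuasiIso (((rc P αd).mapHomologicalComplex cS).map (eta M J q)) :=
      (FibDouble8.quasiIso_map_iff _ _).2 fun k => (isIso_rc_map_iff αd _).2 (hbot k)
    rw [adjunct_qα]
    exact quasiIso_comp _ _
  let e₀ : ∀ G : Sheaf (topAugTop P (bot (E2 DS DS))) AddCommGrpCat.{u}, G ≅ (rc P αd).obj (ext.obj G) :=
    fun G => asIso ((adj₀ P).unit.app G) ≪≫ (resRs P αd (ext.obj G) (bot DS)).symm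
  let c : L ≅ ((rc P αd).mapHomologicalComplex cS).obj M :=
    HomologicalComplex.Hom.isoOfComponents (fun n => e₀ (L.X n)) fun i j _ => by
      apply Sheaf.hom_ext
      ext U : 2
      have h := congrArg (fun t => t.hom.app U) ((adj₀ P).unit.naturality (L.d i j))
      change (((adj₀ P).unit.app (L.X i)).hom.app U ≫ 𝟙 _) ≫ (ext.map (L.d i j)).hom.app _ =
        (L.d i j).hom.app U ≫ ((adj₀ P).unit.app (L.X j)).hom.app U ≫ 𝟙 _
      erw [Category.comp_id, Category.comp_id]
      exact h.symm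
  let J₁ := ((rpart P αd).mapHomologicalComplex cS).obj (((coe P QW.ι).mapHomologicalComplex cS).obj J)
  haveI : CochainComplex.IsStrictlyGE J₁ a := CochainComplex.isStrictlyGE_iff _ _ |>.2 fun j hj =>
    (show IsZero ((rpart P αd).obj ((coe P QW.ι).obj (J.X j))) from
      (rpart P αd).map_isZero ((coe P QW.ι).map_isZero (CochainComplex.isZero_of_isStrictlyGE J a j hj)))
  haveI := hJ₂ge
  haveI : ∀ p, Injective (J₂.X p) := hJ₂
  haveI : J₂.IsKInjective := CochainComplex.isKInjective_of_injective J₂ a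
  let q₂' := ((pull (topAug (Yα P αd)) (topAugTop (Yα P αd)) AddCommGrpCat.{u}).mapHomologicalComplex cS).map c.inv ≫ q₂
  letI := HasDerivedCategory.standard (PSh (Yα P αd))
  obtain ⟨θ, ⟨H⟩⟩ : ∃ θ : J₁ ⟶ J₂, Nonempty (Homotopy (qα M J q αd ≫ θ) q₂') := by
    obtain ⟨θ, hθ⟩ := KInjLib.exists_map_eq (inv (DerivedCategory.Q.map (qα M J q αd)) ≫ DerivedCategory.Q.map q₂')
    exact ⟨θ, (KInjLib.map_eq_iff _ _).1 (by rw [Functor.map_comp, hθ, IsIso.hom_inv_id_assoc])⟩
  haveI : _root_.QuasiIso (qα M J q αd ≫ θ) := FibProper8.quasiIso_of_homotopy H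
  haveI : _root_.QuasiIso θ := quasiIso_of_comp_left (qα M J q αd) θ
  obtain ⟨R⟩ := nonempty_prep
  haveI hθ := quasiIso_push θ a
    (fun p => haveI := hJ p; haveI : Injective ((coe P QW.ι).obj (J.X p)) :=
      Injective.injective_of_adjoint (adjB P QW.ι) (J.X p)
      isRes_rpart R ((coe P QW.ι).obj (J.X p)))
    (fun p => isRes_injective _)
    (fun n => (FibDouble8.quasiIso_map_iff _ _).2 fun k => by
      haveI : IsIso (HomologicalComplex.homologyMap θ k) :=
        (quasiIsoAt_iff_isIso_homologyMap _ k).1 ((inferInstance : _root_.QuasiIso θ).quasiIsoAt k)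
      exact Functor.map_isIso _ _)
  let ad := FibDesc.adj (topAug (Yα P αd)) (topAugTop (Yα P αd)) AddCommGrpCat.{u}
  let Pu := push (topAug (Yα P αd)) (topAugTop (Yα P αd)) AddCommGrpCat.{u}
  have e1 : adjunct ad (qα M J q αd ≫ θ) = adjunct ad (qα M J q αd) ≫ (Pu.mapHomologicalComplex cS).map θ :=
    Adjunction.homEquiv_naturality_right _ _ _
  haveI := hη
  haveI h1 : _root_.QuasiIso (adjunct ad (qα M J q αd ≫ θ)) := by
    rw [e1]
    exact quasiIso_comp _ _
  haveI h2 : _root_.QuasiIso (adjunct ad q₂') := by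
    obtain ⟨H'⟩ := nonempty_homotopy_adjunct' ad H
    exact FibProper8.quasiIso_of_homotopy H'.symm
  rw [adjunct_iso_comp] at h2
  haveI := h2
  have h3 : _root_.QuasiIso (adjunct ad q₂) := quasiIso_of_comp_left c.inv _
  exact (quasiIsoAt_iff_isIso_homologyMap _ i).1 (h3.quasiIsoAt i)

end Groth.Agent.FibHyper8
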