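import Groth.Agent.Lib.FibHyper8.Diag
import Groth.Agent.Lib.FibDouble8.Univ
import Mathlib.AlgebraicTopology.SimplexCategory.Augmented.Basic
import Mathlib.AlgebraicTopology.SimplicialObject.Coskeletal

/-!
# Augmented families of simplicial objects over a space
-/

set_option autoImplicit false
set_option backward.isDefEq.respectTransparency false
set_option backward.isDefEq.respectTransparency.types false

universe u

open CategoryTheory CategoryTheory.Limits Opposite FibDesc
open SimplexCategory
open scoped Simplicial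
open Groth.Agent.FibSplit8 Groth.Agent.FibDouble8 Groth.Agent.FibProper8

noncomputable section

namespace Groth.Agent.FibHyper8

local notation "DS" => SimplexCategory

variable {S : TopCat.{u}}

/-- The augmented simplicial space of a simplicial space over `S`. -/
def augS (K : SimplicialObject (Over S)) : SimplicialObject.Augmented TopCat.{u} where
  left := K ⋙ Over.forget S
  right := S
  hom :=
    { app := fun i => (K.obj i).hom
      naturality := fun i j g => (Over.w (K.map g)).trans (Category.comp_id _).symm }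

/-- Its family. -/
def Fam (K : SimplicialObject (Over S)) : (WithInitial DS)ᵒᵖ ⥤ TopCat.{u} :=
  AugmentedSimplexCategory.equivAugmentedSimplicialObject.inverse.obj (augS K)

/-- The morphism of families of a morphism over `S`. -/
def famMap {K L : SimplicialObject (Over S)} (α : K ⟶ L) : Fam K ⟶ Fam L :=
  AugmentedSimplexCategory.equivAugmentedSimplicialObject.inverse.map
    ({ left := Functor.whiskerRight α (Over.forget S)
       right := 𝟙 S
       w := by
         refine NatTrans.ext (funext fun i => ?_)
         exact (Over.w (α.app i)).trans (Category.comp_id _).symm } : augS K ⟶ augS L)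

theorem famMap_of {K L : SimplicialObject (Over S)} (α : K ⟶ L) (n : DS) :
    (famMap α).app (idx n) = (α.app (op n)).left := rfl

theorem famMap_bot {K L : SimplicialObject (Over S)} (α : K ⟶ L) : (famMap α).app (bot DS) = 𝟙 S := rfl

instance isIso_famMap_bot {K L : SimplicialObject (Over S)} (α : K ⟶ L) : IsIso ((famMap α).app (bot DS)) :=
  inferInstanceAs (IsIso (𝟙 S))

theorem isIso_famMap {K L : SimplicialObject (Over S)} (α : K ⟶ L) [IsIso α] (i : (WithInitial DS)ᵒᵖ) :
    IsIso ((famMap α).app i) := by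
  obtain ⟨n | _⟩ := i
  · exact inferInstanceAs (IsIso ((Over.forget S).map (α.app (op n))))
  · exact inferInstanceAs (IsIso (𝟙 S))

theorem famMap_comp {K L M : SimplicialObject (Over S)} (α : K ⟶ L) (β : L ⟶ M) :
    famMap (α ≫ β) = famMap α ≫ famMap β := by
  ext ⟨n | _⟩ : 2
  · rfl
  · exact (Category.id_comp _).symm

theorem famMap_id (K : SimplicialObject (Over S)) : famMap (𝟙 K) = 𝟙 (Fam K) := by
  ext ⟨n | _⟩ : 2
  · rfl
  · rfl

/-- The simplicial space over the base of a family. -/
def toSimp (Y : (WithInitial DS)ᵒᵖ ⥤ TopCat.{u}) : SimplicialObject (Over (Y.obj (bot DS))) where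
  obj n := Over.mk (Y.map (botTerminal.from ((toAug DS).obj n)))
  map {n m} g := Over.homMk (Y.map ((toAug DS).map g)) (by
    change Y.map _ ≫ Y.map _ = Y.map _
    rw [← Y.map_comp]
    exact congrArg Y.map (botTerminal.hom_ext _ _))
  map_id n := by
    apply Over.OverMorphism.ext
    exact (congrArg Y.map ((toAug DS).map_id n)).trans (Y.map_id _)
  map_comp f g := by
    apply Over.OverMorphism.ext
    exact (congrArg Y.map ((toAug DS).map_comp f g)).trans (Y.map_comp _ _)

/-- The family of the simplicial space of a family. -/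
def famToSimp (Y : (WithInitial DS)ᵒᵖ ⥤ TopCat.{u}) : Fam (toSimp Y) ⟶ Y where
  app
    | ⟨.star⟩ => 𝟙 (Y.obj (bot DS))
    | ⟨.of n⟩ => 𝟙 (Y.obj (idx n))
  naturality := by
    rintro ⟨x | _⟩ ⟨y | _⟩ ⟨f⟩
    · change Y.map _ ≫ 𝟙 _ = 𝟙 _ ≫ Y.map _
      rw [Category.comp_id, Category.id_comp]
      rfl
    · change Y.map _ ≫ 𝟙 _ = 𝟙 _ ≫ Y.map _
      rw [Category.comp_id, Category.id_comp]
      exact congrArg Y.map (botTerminal.hom_ext _ _)
    · exact (f : PEmpty).elim
    · change 𝟙 _ ≫ 𝟙 _ = 𝟙 _ ≫ Y.map _
      rw [Category.id_comp, Category.id_comp]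
      exact ((congrArg Y.map (botTerminal.hom_ext _ (𝟙 (bot DS)))).trans (Y.map_id _)).symm

instance isIso_famToSimp (Y : (WithInitial DS)ᵒᵖ ⥤ TopCat.{u}) (i : (WithInitial DS)ᵒᵖ) :
    IsIso ((famToSimp Y).app i) := by
  obtain ⟨n | _⟩ := i
  · exact inferInstanceAs (IsIso (𝟙 (Y.obj (idx n))))
  · exact inferInstanceAs (IsIso (𝟙 (Y.obj (bot DS))))

/-- The family of the simplicial space of a family, backwards. -/
def famToSimpIso (Y : (WithInitial DS)ᵒᵖ ⥤ TopCat.{u}) : Fam (toSimp Y) ≅ Y :=
  haveI : IsIso (famToSimp Y) := NatIso.isIso_of_isIso_app _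
  asIso (famToSimp Y)

theorem descent_toSimp (Y : (WithInitial DS)ᵒᵖ ⥤ TopCat.{u}) (h : IsCohDescentTop Y) :
    IsCohDescentTop (Fam (toSimp Y)) := by
  haveI : ∀ i, IsIso ((famToSimpIso Y).inv.app i) := fun i => inferInstance
  exact isCohDescentTop_of_iso (famToSimpIso Y).inv h

theorem isUniv_of_isIso {X Z : TopCat.{u}} (f : X ⟶ Z) [IsIso f] : IsUnivCohDescentMap f :=
  FibSplit8.isUnivCohDescentMap_of_section f (inv f) (IsIso.inv_hom_id f)

/-- The constant family is of descent. -/
theorem descent_of_isIso_eps (Y : (WithInitial DS)ᵒᵖ ⥤ TopCat.{u}) (hY : ∀ i, IsIso (epsMap Y i)) :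
    IsCohDescentTop Y := by
  let S₀ := Y.obj (bot DS)
  let C₀ := cechAug (𝟙 S₀)
  have hC : ∀ i, IsIso (epsMap C₀ i) := by
    rintro ⟨n | _⟩
    · refine ⟨WidePullback.lift (𝟙 S₀) (fun _ => 𝟙 S₀) (fun _ => Category.comp_id _), ?_, ?_⟩
      · apply w_ext
        · intro j
          rw [Category.assoc, Category.id_comp]
          refine (congrArg (_ ≫ ·) (WidePullback.lift_π _ _ _ _ _)).trans ?_
          refine (Category.comp_id _).trans ?_
          exact ((Category.comp_id _).symm.trans (WidePullback.π_arrow _ j)).symm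
        · rw [Category.assoc, Category.id_comp]
          exact (congrArg (_ ≫ ·) (WidePullback.lift_base _ _ _ _)).trans (Category.comp_id _)
      · exact WidePullback.lift_base _ _ _ _
    · rw [show epsMap C₀ (bot DS) = 𝟙 _ from epsMap_bot C₀]; infer_instance
  let j : C₀ ⟶ Y :=
    { app := fun i => epsMap C₀ i ≫ inv (I := hY i) (epsMap Y i)
      naturality := fun i k f => by
        haveI := hY k
        haveI := hY i
        rw [← cancel_mono (epsMap Y k)]
        simp only [Category.assoc, IsIso.inv_hom_id, Category.comp_id, Groth.Agent.FibSplit8.map_epsMap] }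
  haveI : ∀ i, IsIso (j.app i) := fun i => by
    haveI := hY i
    haveI := hC i
    exact inferInstanceAs (IsIso (epsMap C₀ i ≫ inv (epsMap Y i)))
  exact isCohDescentTop_of_iso j (FibSplit8.isCohDescentMap_of_section (𝟙 S₀) (𝟙 S₀) (Category.comp_id _))

end Groth.Agent.FibHyper8
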