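import Groth.Agent.Lib.FibProper8.Soft
import Mathlib.Topology.Sheaves.Flasque

/-!
# Sections of bounded below acyclic complexes of flasque sheaves
-/

set_option autoImplicit false
set_option backward.isDefEq.respectTransparency false
set_option backward.isDefEq.respectTransparency.types false
set_option maxHeartbeats 1000000

universe u

open CategoryTheory CategoryTheory.Limits Opposite TopologicalSpace
open Groth.Agent.SheafVan16 Groth.Agent.CohFound Groth.Agent.GodTot16 Groth.Agent.RFPlus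

noncomputable section

namespace Groth.Agent.FibHyper8

variable {Z : TopCat.{u}}

local notation "cS" => ComplexShape.up ℤ

/-- Sections over an open subset. -/
abbrev Sec (V : Opens Z) : CohTop.Ab Z ⥤ AddCommGrpCat.{u} :=
  sheafToPresheaf (Opens.grothendieckTopology Z) AddCommGrpCat.{u} ⋙ (evaluation _ _).obj (op V)

instance additive_Sec (V : Opens Z) : (Sec V).Additive where

theorem flasque_of_isZero {A : CohTop.Ab Z} (h : IsZero A) : TopCat.Sheaf.IsFlasque A :=
  ⟨fun {U V} _ => ((Sec V.unop).map_isZero h).epi _⟩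

theorem flasque_biprod {A B : CohTop.Ab Z} (hA : TopCat.Sheaf.IsFlasque A) (hB : TopCat.Sheaf.IsFlasque B) :
    TopCat.Sheaf.IsFlasque (A ⊞ B) := ⟨fun {U V} i => (AddCommGrpCat.epi_iff_surjective _).2 fun t => by
  obtain ⟨a, ha⟩ := (AddCommGrpCat.epi_iff_surjective _).1 (hA.epi i) ((biprod.fst : A ⊞ B ⟶ A).hom.app V t)
  obtain ⟨b, hb⟩ := (AddCommGrpCat.epi_iff_surjective _).1 (hB.epi i) ((biprod.snd : A ⊞ B ⟶ B).hom.app V t)
  refine ⟨(biprod.inl : A ⟶ A ⊞ B).hom.app U a + (biprod.inr : B ⟶ A ⊞ B).hom.app U b, ?_⟩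
  rw [map_add, ← NatTrans.naturality_apply, ← NatTrans.naturality_apply, ha, hb]
  exact ConcreteCategory.congr_hom (congrArg (fun φ => φ.hom.app V) (biprod.total (X := A) (Y := B))) t⟩

theorem flasque_of_iso {A B : CohTop.Ab Z} (e : A ≅ B) (hA : TopCat.Sheaf.IsFlasque A) :
    TopCat.Sheaf.IsFlasque B := ⟨fun {U V} i => by
  haveI := hA.epi i
  have h : B.obj.map i = e.inv.hom.app U ≫ A.obj.map i ≫ e.hom.hom.app V := by
    rw [e.hom.hom.naturality, ← Category.assoc]
    exact ((congrArg (fun φ => φ.hom.app U ≫ B.obj.map i) e.inv_hom_id).trans (Category.id_comp _)).symm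
  haveI : IsIso (e.inv.hom.app U) := inferInstanceAs (IsIso ((Sec U.unop).map e.inv))
  haveI : IsIso (e.hom.hom.app V) := inferInstanceAs (IsIso ((Sec V.unop).map e.hom))
  rw [h]; infer_instance⟩

theorem flasque_X₃ {S : ShortComplex (CohTop.Ab Z)} (hS : S.ShortExact) (h1 : TopCat.Sheaf.IsFlasque S.X₁)
    (h2 : TopCat.Sheaf.IsFlasque S.X₂) : TopCat.Sheaf.IsFlasque S.X₃ := ⟨fun {U V} i => by
  haveI := h1
  haveI : Epi (S.g.hom.app V) := TopCat.Sheaf.IsFlasque.epi_of_shortExact (U := V.unop) hS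
  haveI := h2.epi i
  haveI : Epi (S.g.hom.app U ≫ S.X₃.obj.map i) := by rw [← S.g.hom.naturality]; exact epi_comp _ _
  exact epi_of_epi (S.g.hom.app U) _⟩

theorem acyclic_Sec (V : Opens Z) {C : CochainComplex (CohTop.Ab Z) ℤ} (a : ℤ) [C.IsStrictlyGE a]
    (hac : C.Acyclic) (hs : ∀ p, TopCat.Sheaf.IsFlasque (C.X p)) :
    (((Sec V).mapHomologicalComplex cS).obj C).Acyclic := by
  let p : ∀ i, C.X i ⟶ kernel (C.d (i + 1) (i + 1 + 1)) := fun i => kernel.lift _ (C.d i (i + 1)) (C.d_comp_d _ _ _)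
  have hp : ∀ i, Epi (p i) := fun i =>
    ((C.sc' i (i + 1) (i + 1 + 1)).exact_iff_epi_kernel_lift).1
      ((C.exactAt_iff' i (i + 1) (i + 1 + 1) (by simp) (by simp)).1 (hac (i + 1)))
  have hw : ∀ i, kernel.ι (C.d i (i + 1)) ≫ p i = 0 := fun i => by
    rw [← cancel_mono (kernel.ι _)]; simp [p]
  have hse : ∀ i, (ShortComplex.mk _ _ (hw i)).ShortExact := fun i => by
    haveI := hp i
    refine { exact := ShortComplex.exact_of_f_is_kernel _ (KernelFork.IsLimit.ofι' _ (hw i) fun k hk =>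
      ⟨kernel.lift _ k (by
        have h := congrArg (· ≫ kernel.ι (C.d (i + 1) (i + 1 + 1))) hk
        simpa [p] using h), kernel.lift_ι _ _ _⟩) }
  have hZ : ∀ (k : ℕ) (i : ℤ), i < a + k → TopCat.Sheaf.IsFlasque (kernel (C.d i (i + 1))) := by
    intro k
    induction k with
    | zero => exact fun i hi => flasque_of_isZero (IsZero.of_mono (kernel.ι _) (C.isZero_of_isStrictlyGE a i (by simpa using hi)))
    | succ k ih =>
      intro i hi
      obtain ⟨l, rfl⟩ : ∃ l, i = l + 1 := ⟨i - 1, by omega⟩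
      exact flasque_X₃ (hse l) (ih l (by push_cast at hi; omega)) (hs l)
  intro i
  obtain ⟨k, rfl⟩ : ∃ k, i = k + 1 := ⟨i - 1, by omega⟩
  have hk : Function.Surjective ((p k).hom.app (op V)) := by
    haveI : TopCat.Sheaf.IsFlasque (ShortComplex.mk _ _ (hw k)).X₁ := hZ (k + 1 - a).toNat k (by omega)
    exact (AddCommGrpCat.epi_iff_surjective _).1 (TopCat.Sheaf.IsFlasque.epi_of_shortExact (U := V) (hse k))
  rw [HomologicalComplex.exactAt_iff' _ k (k + 1) (k + 1 + 1) (by simp) (by simp), ShortComplex.ab_exact_iff]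
  intro (x : (C.X (k + 1)).obj.obj (op V)) (hx : (C.d (k + 1) (k + 1 + 1)).hom.app (op V) x = 0)
  have hker : ∃ y, (kernel.ι (C.d (k + 1) (k + 1 + 1))).hom.app (op V) y = x := by
    have hl := isLimitOfPreserves (Sec V) (kernelIsKernel (C.d (k + 1) (k + 1 + 1)))
    let S : ShortComplex AddCommGrpCat.{u} := ShortComplex.mk ((Sec V).map (kernel.ι (C.d (k + 1) (k + 1 + 1))))
      ((Sec V).map (C.d (k + 1) (k + 1 + 1))) (by rw [← Functor.map_comp, kernel.condition, Functor.map_zero])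
    exact (ShortComplex.ab_exact_iff S).1
      (ShortComplex.exact_of_f_is_kernel S ((isLimitMapConeForkEquiv' (Sec V) (kernel.condition _)) hl)) x hx
  obtain ⟨y, rfl⟩ := hker
  obtain ⟨w, rfl⟩ := hk y
  refine ⟨w, ?_⟩
  exact (ConcreteCategory.congr_hom (congrArg (fun φ => φ.hom.app (op V))
    (kernel.lift_ι (C.d (k + 1) (k + 1 + 1)) (C.d k (k + 1)) (C.d_comp_d _ _ _))) w).symm

end Groth.Agent.FibHyper8
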