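import Groth.Agent.Lib.FibHyper8.Resol

/-!
# Functoriality of the direct image to the base
-/

set_option autoImplicit false
set_option backward.isDefEq.respectTransparency false
set_option backward.isDefEq.respectTransparency.types false
set_option maxHeartbeats 1000000

universe u

open CategoryTheory CategoryTheory.Limits Opposite TopologicalSpace Pseudofunctor.CoGrothendieck FibDesc
open SimplexCategory
open scoped Simplicial
open Groth.Agent.FibSplit8 Groth.Agent.FibLocal8 Groth.Agent.RFPlus Groth.Agent.FibProper8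

noncomputable section

namespace Groth.Agent.FibHyper8

variable {Y' Y : (WithInitial SimplexCategory)ᵒᵖ ⥤ TopCat.{u}} (Φ : Y' ⟶ Y)

local notation "DS" => SimplexCategory
local notation "cS" => ComplexShape.up ℤ

/-- The comparison of direct images. -/
def gamma : push (topAug Y') (topAugTop Y') AddCommGrpCat.{u} ⋙ kP Φ (bot DS) ⟶
    PΦ Φ ⋙ push (topAug Y) (topAugTop Y) AddCommGrpCat.{u} where
  app M := (cmpR Φ (bot DS)).hom.app ((ccR Y').obj M) ≫
    (rs Y (bot DS)).map ((adjR Y).homEquiv _ _ ((cmpP Φ).hom.app ((ccR Y').obj M) ≫ (PΦ Φ).map ((adjR Y').counit.app M)))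
  naturality M N φ := by
    change (kP Φ (bot DS)).map ((rs Y' (bot DS)).map ((ccR Y').map φ)) ≫ _ ≫ _ =
      (_ ≫ _) ≫ (rs Y (bot DS)).map ((ccR Y).map ((PΦ Φ).map φ))
    rw [Category.assoc, ← Functor.map_comp, ← Adjunction.homEquiv_naturality_right, ← Category.assoc]
    refine (congrArg (· ≫ _) ((cmpR Φ (bot DS)).hom.naturality ((ccR Y').map φ))).trans ?_
    rw [Category.assoc, Functor.comp_map, ← Functor.map_comp, ← Adjunction.homEquiv_naturality_left]
    refine congrArg (fun t => _ ≫ (rs Y (bot DS)).map ((adjR Y).homEquiv _ _ t)) ?_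
    rw [← Category.assoc]
    refine (congrArg (· ≫ _) ((cmpP Φ).hom.naturality ((ccR Y').map φ))).trans ?_
    rw [Category.assoc, Category.assoc, Functor.comp_map, ← Functor.map_comp, ← Functor.map_comp]
    exact congrArg (fun t => _ ≫ (PΦ Φ).map t) ((adjR Y').counit.naturality φ)

/-- The comparison of the levels. -/
def levArr (U : Opens (Y.obj (bot DS))) (n : DS) :
    (ImP Φ).obj (pb Y U n) ⟶ pb Y' ((Opens.map (Φ.app (bot DS))).obj U) n :=
  homMkPart (a := (ImP Φ).obj (pb Y U n)) (b := pb Y' ((Opens.map (Φ.app (bot DS))).obj U) n) (𝟙 _) (by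
    rw [(toAug DS).map_id]
    exact le_of_eq ((preimage_eps Φ (idx n) U).trans (map_id_obj _ _).symm))

instance isIso_levArr (U : Opens (Y.obj (bot DS))) (n : DS) : IsIso (levArr Φ U n) :=
  ⟨homMkPart (a := pb Y' ((Opens.map (Φ.app (bot DS))).obj U) n) (b := (ImP Φ).obj (pb Y U n)) (𝟙 _) (by
      rw [(toAug DS).map_id]
      exact le_of_eq ((preimage_eps Φ (idx n) U).symm.trans (map_id_obj _ _).symm)),
    hom_ext_part (Category.id_comp _), hom_ext_part (Category.id_comp _)⟩

theorem iota_gamma (M : PSh Y') (U : Opens (Y.obj (bot DS)))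
    (x : ((push (topAug Y') (topAugTop Y') AddCommGrpCat.{u}).obj M).obj.obj
      (op ((Opens.map (Φ.app (bot DS))).obj U))) :
    iota U ((PΦ Φ).obj M) (((gamma Φ).app M).hom.app (op U) x) =
      M.obj.map (levArr Φ U ⦋0⦌).op (iota ((Opens.map (Φ.app (bot DS))).obj U) M x) := by
  let χ := (adjR Y).homEquiv _ _ ((cmpP Φ).hom.app ((ccR Y').obj M) ≫ (PΦ Φ).map ((adjR Y').counit.app M))
  have h2 : (inclR Y).map χ ≫ (adjR Y).counit.app _ =
      (cmpP Φ).hom.app ((ccR Y').obj M) ≫ (PΦ Φ).map ((adjR Y').counit.app M) :=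
    ((adjR Y).homEquiv_counit _ _ _).symm.trans (Equiv.symm_apply_apply _ _)
  change ((adjR Y).counit.app _).hom.app _ (((ccR Y).obj _).obj.map _ (χ.hom.app (op (mkObj Y (bot DS) U)) x)) =
    M.obj.map _ (((adjR Y').counit.app M).hom.app _ (((ccR Y').obj M).obj.map _ x))
  rw [← NatTrans.naturality_apply χ.hom]
  refine (congrArg (fun η => (η.hom.app (op (pb Y U ⦋0⦌)))
    (((TΦ Φ).obj ((ccR Y').obj M)).obj.map (toBot Y (idx ⦋0⦌) U).op x)) h2).trans ?_
  refine Eq.trans ?_ (NatTrans.naturality_apply ((adjR Y').counit.app M).hom (levArr Φ U ⦋0⦌).op _)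
  refine congrArg (((adjR Y').counit.app M).hom.app (op ((ImP Φ).obj (pb Y U ⦋0⦌)))) ?_
  refine Eq.trans ?_ (ConcreteCategory.congr_hom (((ccR Y').obj M).obj.map_comp _ _) x)
  exact congrArg (fun t => ((ccR Y').obj M).obj.map t x) (Quiver.Hom.unop_inj (hom_ext Y' (botTerminal.hom_ext _ _)))

theorem dv_levArr (M : PSh Y') (U : Opens (Y.obj (bot DS))) (n : ℕ)
    (x : val M ((Opens.map (Φ.app (bot DS))).obj U) n) :
    dv ((PΦ Φ).obj M) U n (M.obj.map (levArr Φ U ⦋n⦌).op x) =
      M.obj.map (levArr Φ U ⦋n + 1⦌).op (dv M ((Opens.map (Φ.app (bot DS))).obj U) n x) := by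
  rw [dv_apply, dv_apply, map_sum]
  refine Finset.sum_congr rfl fun i _ => ?_
  rw [map_zsmul]
  refine congrArg (_ • ·) ?_
  refine (ConcreteCategory.congr_hom (M.obj.map_comp _ _) x).symm.trans
    (Eq.trans ?_ (ConcreteCategory.congr_hom (M.obj.map_comp _ _) x))
  exact congrArg (fun t => M.obj.map t x) (Quiver.Hom.unop_inj (hom_ext_part
    ((Category.comp_id _).trans (Category.id_comp _).symm)))

instance isIso_gamma (M : PSh Y') : IsIso ((gamma Φ).app M) := by
  refine @isIso_of_reflects_iso _ _ _ _ _ _ _ (sheafToPresheaf _ _) ?_ _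
  refine @NatIso.isIso_of_isIso_app _ _ _ _ _ _ _ fun U => ?_
  change IsIso (((gamma Φ).app M).hom.app U)
  rw [ConcreteCategory.isIso_iff_bijective]
  let k := (Opens.map (Φ.app (bot DS))).obj U.unop
  have hb : ∀ n : ℕ, Function.Bijective (M.obj.map (levArr Φ U.unop ⦋n⦌).op) := fun n =>
    ConcreteCategory.bijective_of_isIso _
  refine ⟨fun x y e => iota_injective k M ((hb 0).1 ?_), fun y => ?_⟩
  · rw [← iota_gamma, ← iota_gamma]
    exact congrArg _ e
  · obtain ⟨b, hb'⟩ := (hb 0).2 (iota U.unop _ y)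
    obtain ⟨a, rfl⟩ := exists_iota k M b ((hb 1).1 (by
      rw [map_zero]
      exact (dv_levArr Φ M U.unop 0 b).symm.trans ((congrArg _ hb').trans (dv_iota U.unop _ y))))
    exact ⟨a, iota_injective U.unop _ ((iota_gamma Φ M U.unop a).trans hb')⟩

theorem homEquiv_xiP {G : Sheaf (topAugTop Y (bot DS)) AddCommGrpCat.{u}} {M : PSh Y'}
    (ψ : (pull (topAug Y') (topAugTop Y') AddCommGrpCat.{u}).obj ((kL Φ (bot DS)).obj G) ⟶ M) :
    (FibDesc.adj (topAug Y) (topAugTop Y) AddCommGrpCat.{u}).homEquiv G _ (xiP Φ G ≫ (PΦ Φ).map ψ) =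
      (kA Φ (bot DS)).unit.app G ≫
        (kP Φ (bot DS)).map ((FibDesc.adj (topAug Y') (topAugTop Y') AddCommGrpCat.{u}).homEquiv _ M ψ) ≫
          (gamma Φ).app M := by
  apply Sheaf.hom_ext
  refine NatTrans.ext (funext fun U => AddCommGrpCat.hom_ext (AddMonoidHom.ext fun x => ?_))
  apply iota_injective U.unop ((PΦ Φ).obj M)
  refine (iota_homEquiv (xiP Φ G ≫ (PΦ Φ).map ψ) U.unop x).trans ?_
  refine Eq.symm ((iota_gamma Φ M U.unop _).trans ?_)
  refine (congrArg (M.obj.map _) (iota_homEquiv ψ _ _)).trans ?_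
  refine (NatTrans.naturality_apply ψ.hom (levArr Φ U.unop ⦋0⦌).op _).symm.trans ?_
  refine congrArg (ψ.hom.app (op ((ImP Φ).obj (pb Y U.unop ⦋0⦌)))) ?_
  let E := ext₀ Y' ((kL Φ (bot DS)).obj G)
  have h := congrArg (fun η => (η.hom.app U) x) (unit_xiT Φ G)
  refine Eq.trans ?_ ((NatTrans.naturality_apply (xiT Φ G).hom (toBot Y (idx ⦋0⦌) U.unop).op _).trans
    (congrArg _ h)).symm
  refine (ConcreteCategory.congr_hom (E.obj.map_comp _ _) _).symm.trans ?_
  exact congrArg (fun t => E.obj.map t _) (Quiver.Hom.unop_inj (hom_ext Y' (botTerminal.hom_ext _ _)))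

section Equiv

variable {X Z : TopCat.{u}} (f : X ⟶ Z) [IsIso f]

/-- Direct images along inverse maps compose to the identity. -/
def pushPushInv {A B : TopCat.{u}} (p : A ⟶ B) (q : B ⟶ A) (h : p ≫ q = 𝟙 A) :
    CohTop.push p ⋙ CohTop.push q ≅ 𝟭 (CohTop.Ab A) :=
  NatIso.ofComponents (fun M => (fullyFaithfulSheafToPresheaf _ _).preimageIso
    (NatIso.ofComponents (fun U => M.obj.mapIso (eqToIso (by
      change (Opens.map p).obj ((Opens.map q).obj U.unop) = U.unop
      rw [← Opens.map_comp_obj, h]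
      rfl : (Opens.map p).obj ((Opens.map q).obj U.unop) = U.unop)).op.symm) fun g => by
        change M.obj.map _ ≫ M.obj.map _ = M.obj.map _ ≫ M.obj.map _
        rw [← M.obj.map_comp, ← M.obj.map_comp]
        exact congrArg M.obj.map (Subsingleton.elim _ _)))
    fun φ => by
      apply Sheaf.hom_ext
      refine NatTrans.ext (funext fun U => ?_)
      exact φ.hom.naturality _ |>.symm

/-- Direct image along an isomorphism is an equivalence. -/
def pushEquiv : CohTop.Ab X ≌ CohTop.Ab Z :=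
  CategoryTheory.Equivalence.mk (CohTop.push f) (CohTop.push (inv f))
    (pushPushInv f (inv f) (IsIso.hom_inv_id f)).symm (pushPushInv (inv f) f (IsIso.inv_hom_id f))

instance isEquivalence_push : (CohTop.push f).IsEquivalence := (pushEquiv f).isEquivalence_functor

instance isIso_unit_push (G : CohTop.Ab Z) :
    IsIso ((TopCat.Sheaf.pullbackPushforwardAdjunction AddCommGrpCat.{u} f).unit.app G) := by
  haveI : (CohTop.push f).IsEquivalence := isEquivalence_push f
  haveI : (CohTop.pull f).IsEquivalence :=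
    (TopCat.Sheaf.pullbackPushforwardAdjunction AddCommGrpCat.{u} f).isEquivalence_left_of_isEquivalence_right
  infer_instance

end Equiv

section Compare

variable [IsIso (Φ.app (bot DS))]

/-- Compare the resolutions along a map of augmented families over the base. -/
theorem exists_compare {L : CochainComplex (Sheaf (topAugTop Y (bot DS)) AddCommGrpCat.{u}) ℤ} (a : ℤ)
    {J : CochainComplex (PSh Y) ℤ}
    (q : ((pull (topAug Y) (topAugTop Y) AddCommGrpCat.{u}).mapHomologicalComplex cS).obj L ⟶ J) [_root_.QuasiIso q]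
    {J' : CochainComplex (PSh Y') ℤ} [J'.IsStrictlyGE a] (hJ' : ∀ p, Injective (J'.X p))
    (q' : ((pull (topAug Y') (topAugTop Y') AddCommGrpCat.{u}).mapHomologicalComplex cS).obj
      (((kL Φ (bot DS)).mapHomologicalComplex cS).obj L) ⟶ J') :
    ∃ θ : J ⟶ ((PΦ Φ).mapHomologicalComplex cS).obj J',
      Nonempty (Homotopy (q ≫ θ) (xiC Φ L ≫ ((PΦ Φ).mapHomologicalComplex cS).map q')) := by
  letI := HasDerivedCategory.standard (PSh Y)
  let K : CochainComplex (PSh Y) ℤ := ((PΦ Φ).mapHomologicalComplex cS).obj J'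
  haveI := hJ'
  haveI : ∀ p, Injective (K.X p) := fun p => injective_PΦ Φ (J'.X p)
  haveI : K.IsStrictlyGE a := CochainComplex.isStrictlyGE_iff _ _ |>.2 fun i hi =>
    (show IsZero ((PΦ Φ).obj (J'.X i)) from (PΦ Φ).map_isZero (CochainComplex.isZero_of_isStrictlyGE J' a i hi))
  haveI : K.IsKInjective := CochainComplex.isKInjective_of_injective K a
  obtain ⟨θ, hθ⟩ := KInjLib.exists_map_eq (inv (DerivedCategory.Q.map q) ≫
    DerivedCategory.Q.map (xiC Φ L ≫ ((PΦ Φ).mapHomologicalComplex cS).map q'))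
  exact ⟨θ, (KInjLib.map_eq_iff (q ≫ θ) _).1 (by rw [Functor.map_comp, hθ, IsIso.hom_inv_id_assoc])⟩

/-- The identification of the direct images of the two families. -/
def transfer (K : CochainComplex (PSh Y') ℤ) :
    ((kP Φ (bot DS)).mapHomologicalComplex cS).obj
        (((push (topAug Y') (topAugTop Y') AddCommGrpCat.{u}).mapHomologicalComplex cS).obj K) ≅
      ((push (topAug Y) (topAugTop Y) AddCommGrpCat.{u}).mapHomologicalComplex cS).obj
        (((PΦ Φ).mapHomologicalComplex cS).obj K) :=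
  HomologicalComplex.Hom.isoOfComponents (fun p => asIso ((gamma Φ).app (K.X p)))
    fun i j _ => ((gamma Φ).naturality (K.d i j)).symm

/-- The unit on complexes. -/
def unitC (L : CochainComplex (Sheaf (topAugTop Y (bot DS)) AddCommGrpCat.{u}) ℤ) :
    L ≅ ((kP Φ (bot DS)).mapHomologicalComplex cS).obj (((kL Φ (bot DS)).mapHomologicalComplex cS).obj L) :=
  HomologicalComplex.Hom.isoOfComponents (fun p =>
    haveI : IsIso ((kA Φ (bot DS)).unit.app (L.X p)) := isIso_unit_push (Φ.app (bot DS)) (L.X p)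
    asIso ((kA Φ (bot DS)).unit.app (L.X p))) fun i j _ => ((kA Φ (bot DS)).unit.naturality (L.d i j)).symm

/-- The adjunct along a map of augmented families. -/
theorem nonempty_homotopy_adjunct {L : CochainComplex (Sheaf (topAugTop Y (bot DS)) AddCommGrpCat.{u}) ℤ}
    {J : CochainComplex (PSh Y) ℤ}
    (q : ((pull (topAug Y) (topAugTop Y) AddCommGrpCat.{u}).mapHomologicalComplex cS).obj L ⟶ J)
    {J' : CochainComplex (PSh Y') ℤ}
    (q' : ((pull (topAug Y') (topAugTop Y') AddCommGrpCat.{u}).mapHomologicalComplex cS).obj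
      (((kL Φ (bot DS)).mapHomologicalComplex cS).obj L) ⟶ J')
    (θ : J ⟶ ((PΦ Φ).mapHomologicalComplex cS).obj J')
    (H : Homotopy (q ≫ θ) (xiC Φ L ≫ ((PΦ Φ).mapHomologicalComplex cS).map q')) :
    Nonempty (Homotopy (adjunct (FibDesc.adj (topAug Y) (topAugTop Y) AddCommGrpCat.{u}) q ≫
        ((push (topAug Y) (topAugTop Y) AddCommGrpCat.{u}).mapHomologicalComplex cS).map θ)
      ((unitC Φ L).hom ≫ ((kP Φ (bot DS)).mapHomologicalComplex cS).map
        (adjunct (FibDesc.adj (topAug Y') (topAugTop Y') AddCommGrpCat.{u}) q') ≫ (transfer Φ J').hom)) := by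
  let φ := xiC Φ L ≫ ((PΦ Φ).mapHomologicalComplex cS).map q'
  have e : adjunct (FibDesc.adj (topAug Y) (topAugTop Y) AddCommGrpCat.{u}) φ =
      (unitC Φ L).hom ≫ ((kP Φ (bot DS)).mapHomologicalComplex cS).map
        (adjunct (FibDesc.adj (topAug Y') (topAugTop Y') AddCommGrpCat.{u}) q') ≫ (transfer Φ J').hom := by
    ext p : 1
    simp only [adjunct, Adjunction.homEquiv_unit]
    refine Eq.trans ?_ ((homEquiv_xiP Φ (q'.f p)).trans ?_)
    · exact ((FibDesc.adj (topAug Y) (topAugTop Y) AddCommGrpCat.{u}).homEquiv_unit _ _ (φ.f p)).symm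
    · rw [Adjunction.homEquiv_unit]
      rfl
  rw [← e]
  exact ⟨(Homotopy.ofEq (Adjunction.homEquiv_naturality_right _ q θ).symm).trans
      ((Homotopy.ofEq (Adjunction.homEquiv_unit _ _ _ _)).trans
        ((((push (topAug Y) (topAugTop Y) AddCommGrpCat.{u}).mapHomotopy H).compLeft _).trans
          (Homotopy.ofEq (Adjunction.homEquiv_unit _ _ _ _).symm)))⟩

theorem isIso_homologyMap_kP {K L : CochainComplex (Sheaf (topAugTop Y' (bot DS)) AddCommGrpCat.{u}) ℤ} (f : K ⟶ L)
    (i : ℤ) :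
    IsIso (HomologicalComplex.homologyMap (((kP Φ (bot DS)).mapHomologicalComplex cS).map f) i) ↔
      IsIso (HomologicalComplex.homologyMap f i) := by
  haveI : (kP Φ (bot DS)).IsEquivalence := isEquivalence_push (Φ.app (bot DS))
  let ψ := (HomologicalComplex.shortComplexFunctor _ cS i).map f
  have hnat := ShortComplex.mapHomologyIso_hom_naturality ψ (kP Φ (bot DS))
  constructor
  · intro h
    haveI : IsIso (ShortComplex.homologyMap ((kP Φ (bot DS)).mapShortComplex.map ψ)) := h
    haveI : IsIso ((kP Φ (bot DS)).map (HomologicalComplex.homologyMap f i)) := IsIso.of_isIso_fac_left hnat.symm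
    exact isIso_of_reflects_iso _ (kP Φ (bot DS))
  · intro h
    haveI : IsIso (ShortComplex.homologyMap ψ) := h
    exact IsIso.of_isIso_fac_right hnat

end Compare

end Groth.Agent.FibHyper8
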