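import Groth.Agent.Lib.FibHyper8.Cover

/-!
# Hypercoverings for universal descent are of descent
-/

set_option autoImplicit false
set_option backward.isDefEq.respectTransparency false
set_option backward.isDefEq.respectTransparency.types false
set_option maxHeartbeats 1000000

universe u

open CategoryTheory CategoryTheory.Limits Opposite FibDesc
open SimplexCategory
open scoped Simplicial
open Groth.Agent.FibSplit8 Groth.Agent.FibDouble8 Groth.Agent.FibProper8

noncomputable section

namespace Groth.Agent.FibHyper8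

local notation "DS" => SimplexCategory

variable {S : TopCat.{u}}
  [∀ (n : ℕ) (G : (SimplexCategory.Truncated n)ᵒᵖ ⥤ Over S),
    (SimplexCategory.Truncated.inclusion n).op.HasRightKanExtension G]
  (K : SimplicialObject (Over S))

/-- The coskeleton of a simplicial space over `S`. -/
abbrev Ck (m : ℕ) : SimplicialObject (Over S) := (SimplicialObject.cosk m).obj K

/-- The unit of the coskeleton. -/
abbrev uk (m : ℕ) : K ⟶ Ck K m := (SimplicialObject.coskAdj m).unit.app K

theorem isIso_truncation_uk (m : ℕ) :
    IsIso ((SimplicialObject.truncation m).map (uk K m)) :=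
  IsIso.of_isIso_fac_right ((SimplicialObject.coskAdj m).left_triangle_components K)

theorem isIso_uk (m : ℕ) {k : DS} (hk : k.len ≤ m) : IsIso ((uk K m).app (op k)) := by
  haveI := isIso_truncation_uk K m
  exact inferInstanceAs (IsIso (((SimplicialObject.truncation m).map (uk K m)).app
    (op (⟨k, hk⟩ : SimplexCategory.Truncated m))))

theorem isCoskeletal_ck (m : ℕ) : (Ck K m).IsCoskeletal m := by
  rw [SimplicialObject.isCoskeletal_iff_isIso]
  haveI : IsIso ((SimplicialObject.coskAdj (C := Over S) m).counit.app ((SimplicialObject.truncation m).obj K)) :=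
    inferInstance
  haveI : IsIso (𝟙 ((SimplicialObject.Truncated.cosk m).obj ((SimplicialObject.truncation m).obj K))) := IsIso.id _
  exact IsIso.of_isIso_fac_right ((SimplicialObject.coskAdj m).right_triangle_components ((SimplicialObject.truncation m).obj K))

/-- Descent of all coskeleta. -/
theorem descent_cosk (h0 : IsUnivCohDescentMap (K.obj (op ⦋0⦌)).hom)
    (hn : ∀ n : ℕ, IsUnivCohDescentMap ((uk K n).app (op ⦋n + 1⦌)).left) (m : ℕ) :
    IsCohDescentTop (Fam (Ck K m)) := by
  induction m with
  | zero =>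
    haveI := isCoskeletal_ck K 0
    let L : SimplicialObject (Over S) := (Functor.const _).obj (Over.mk (𝟙 S))
    let c : Ck K 0 ⟶ L :=
      { app := fun i => Over.homMk ((Ck K 0).obj i).hom (Category.comp_id _)
        naturality := fun i j g => Over.OverMorphism.ext ((Over.w ((Ck K 0).map g)).trans (Category.comp_id _).symm) }
    refine descent_next c (m := 0) (fun k hk => absurd hk (Nat.not_lt_zero _)) ?_ (fun T p h h' _ => ?_)
      (descent_of_isIso_eps (Fam L) ?_)
    · haveI := isIso_uk K 0 (k := ⦋0⦌) le_rfl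
      have e : inv (uk K 0 |>.app (op ⦋0⦌)).left ≫ (K.obj (op ⦋0⦌)).hom = ((Ck K 0).obj (op ⦋0⦌)).hom := by
        rw [IsIso.inv_comp_eq, Over.w]
      change IsUnivCohDescentMap ((Ck K 0).obj (op ⦋0⦌)).hom
      rw [← e]
      exact isUniv_comp _ _ (isUniv_of_isIso _) h0
    · exact Over.OverMorphism.ext (((Category.comp_id _).symm.trans (Over.w h)).trans
        ((Over.w h').symm.trans (Category.comp_id _)))
    · rintro ⟨n | _⟩
      · exact inferInstanceAs (IsIso (𝟙 S))
      · rw [show epsMap (Fam L) (bot DS) = 𝟙 _ from epsMap_bot _]; infer_instance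
  | succ m ih =>
    haveI := isCoskeletal_ck K (m + 1)
    haveI := isCoskeletal_ck K m
    let inc := (SimplexCategory.Truncated.inclusion m).op
    haveI : IsIso (Functor.whiskerLeft inc (uk K (m + 1))) := by
      haveI : ∀ d, IsIso ((Functor.whiskerLeft inc (uk K (m + 1))).app d) := fun d =>
        isIso_uk K (m + 1) (d.unop.property.trans (Nat.le_succ m))
      exact NatIso.isIso_of_isIso_app _
    let α : inc ⋙ Ck K (m + 1) ⟶ inc ⋙ Ck K m :=
      inv (Functor.whiskerLeft inc (uk K (m + 1))) ≫ Functor.whiskerLeft inc (uk K m)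
    let c : Ck K (m + 1) ⟶ Ck K m := (Ck K m).liftOfIsRightKanExtension (𝟙 _) (Ck K (m + 1)) α
    have hfac : Functor.whiskerLeft inc c = α := by
      have h := (Ck K m).liftOfIsRightKanExtension_fac (𝟙 _) (Ck K (m + 1)) α
      rwa [Category.comp_id] at h
    have hu : uk K (m + 1) ≫ c = uk K m := by
      refine (Ck K m).hom_ext_of_isRightKanExtension (𝟙 (inc ⋙ Ck K m)) _ _ ?_
      rw [Category.comp_id, Category.comp_id, Functor.whiskerLeft_comp, hfac]
      exact IsIso.hom_inv_id_assoc _ _
    have huc : ∀ k : DS, (uk K (m + 1)).app (op k) ≫ c.app (op k) = (uk K m).app (op k) :=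
      fun k => congrArg (fun t => t.app (op k)) hu
    refine descent_next c (m := m + 1) (fun k hk => ?_) ?_ (fun T p h h' e => ?_) ih
    · haveI := isIso_uk K (m + 1) hk.le
      haveI := isIso_uk K m (Nat.le_of_lt_succ hk)
      exact IsIso.of_isIso_fac_left (huc k)
    · haveI := isIso_uk K (m + 1) (k := ⦋m + 1⦌) le_rfl
      have e : inv ((uk K (m + 1)).app (op ⦋m + 1⦌)).left ≫ ((uk K m).app (op ⦋m + 1⦌)).left =
          (c.app (op ⦋m + 1⦌)).left := by
        rw [IsIso.inv_comp_eq]
        exact (congrArg Over.Hom.left (huc ⦋m + 1⦌)).symm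
      rw [← e]
      exact isUniv_comp _ _ (isUniv_of_isIso _) (hn m)
    · exact cosk_hom_ext (Ck K m) m fun k hk θ => e k (Nat.lt_succ_of_le hk) θ

/-- Hypercoverings are of descent. -/
theorem descent_fam (h0 : IsUnivCohDescentMap (K.obj (op ⦋0⦌)).hom)
    (hn : ∀ n : ℕ, IsUnivCohDescentMap ((uk K n).app (op ⦋n + 1⦌)).left) :
    IsCohDescentTop (Fam K) := by
  refine descent_of_etaIso fun a i => ?_
  let N : ℕ := (i - a).toNat + 1
  refine etaIso_of_low (famMap (uk K N)) N (fun n hn => ?_) (descent_cosk K h0 hn N) a i (by omega)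
  haveI := isIso_uk K N (k := ⦋n⦌) hn
  exact inferInstanceAs (IsIso ((uk K N).app (op ⦋n⦌)).left)

end Groth.Agent.FibHyper8
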