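import Groth.Agent.Lib.FibHyper8.Transfer
import Groth.Agent.Lib.FibDouble8.Core

/-!
# Injective sheaves restricted along an index functor with a contracting operator
-/

set_option autoImplicit false
set_option backward.isDefEq.respectTransparency false
set_option backward.isDefEq.respectTransparency.types false
set_option maxHeartbeats 1000000

universe u

open CategoryTheory CategoryTheory.Limits Opposite TopologicalSpace Pseudofunctor.CoGrothendieck FibDesc
open SimplexCategory
open scoped Simplicial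
open Groth.Agent.FibSplit8 Groth.Agent.FibLocal8 Groth.Agent.RFPlus Groth.Agent.FibProper8 Groth.Agent.FibDouble8

noncomputable section

namespace Groth.Agent.FibHyper8

local notation "DS" => SimplexCategory

section AllValues

variable {C : Type u} [Category.{u} C] (F : Cᵒᵖ ⥤ AddCommGrpCat.{u})

/-- All values of a presheaf. -/
def allE : Cᵒᵖ ⥤ AddCommGrpCat.{u} where
  obj Z := AddCommGrpCat.of (∀ X : C, (X ⟶ Z.unop) → F.obj (op X))
  map {Z Z'} f := AddCommGrpCat.ofHom
    { toFun := fun e X g => e X (g ≫ f.unop)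
      map_zero' := rfl
      map_add' := fun _ _ => rfl }
  map_id Z := by
    refine AddCommGrpCat.hom_ext (AddMonoidHom.ext fun e => ?_)
    exact funext fun X => funext fun g => congrArg (e X) (Category.comp_id g)
  map_comp f f' := by
    refine AddCommGrpCat.hom_ext (AddMonoidHom.ext fun e => ?_)
    exact funext fun X => funext fun g => congrArg (e X) (Category.assoc _ _ _).symm

/-- The unit to all values. -/
def allη : F ⟶ allE F where
  app Z := AddCommGrpCat.ofHom
    { toFun := fun x X g => F.map g.op x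
      map_zero' := by funext X g; exact map_zero _
      map_add' := fun x y => by funext X g; exact map_add _ x y }
  naturality Z Z' f := by
    ext x; funext X g
    change F.map g.op (F.map f x) = F.map (g ≫ f.unop).op x
    rw [op_comp, Functor.map_comp]
    rfl

instance mono_allη : Mono (allη F) := by
  haveI : ∀ Z, Mono ((allη F).app Z) := fun Z => by
    refine (AddCommGrpCat.mono_iff_injective _).2 fun x y h => ?_
    have h' : F.map (𝟙 Z.unop).op x = F.map (𝟙 Z.unop).op y := congrFun (congrFun h Z.unop) (𝟙 _)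
    rwa [op_id, F.map_id] at h'
  exact NatTrans.mono_of_mono_app _

theorem exists_allR [Injective F] :
    ∃ R : allE F ⟶ F, ∀ (Z : Cᵒᵖ) (x : F.obj Z), R.app Z ((allη F).app Z x) = x :=
  ⟨Injective.factorThru (𝟙 _) (allη F), fun Z x =>
    ConcreteCategory.congr_hom (congrArg (fun φ => φ.app Z) (Injective.comp_factorThru (𝟙 _) (allη F))) x⟩

end AllValues

variable {E : Type} [Category.{0} E] (Y : (WithInitial E)ᵒᵖ ⥤ TopCat.{u}) (α : WithInitial DS ⥤ WithInitial E)

/-- Prepending a vertex. -/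
structure Prep where
  pr : ∀ {i : (WithInitial E)ᵒᵖ} {n : ℕ}, (i ⟶ (β α).obj (op ⦋n⦌)) → (i ⟶ (β α).obj (op ⦋n + 1⦌))
  pr_zero : ∀ {i : (WithInitial E)ᵒᵖ} {n : ℕ} (g : i ⟶ (β α).obj (op ⦋n⦌)), pr g ≫ (β α).map (δ 0).op = g
  pr_succ : ∀ {i : (WithInitial E)ᵒᵖ} {n : ℕ} (g : i ⟶ (β α).obj (op ⦋n + 1⦌)) (j : Fin (n + 2)),
    pr g ≫ (β α).map (δ j.succ).op = pr (g ≫ (β α).map (δ j).op)

variable {Y α}

theorem prep_le (R : Prep α) {U : Opens ((Yα Y α).obj (bot DS))} {X : ∫ᶜ (topAug Y)} {n : ℕ}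
    (g : X ⟶ (Tpart Y α).obj (pb (Yα Y α) U ⦋n⦌)) :
    opn Y X ≤ (Opens.map (Y.map (R.pr g.base))).obj (lev (Yα Y α) U ⦋n + 1⦌) := by
  refine le_trans (hom_le Y g) (le_of_eq ?_)
  rw [← preimage_lev (Yα Y α) U (δ (0 : Fin (n + 2)))]
  refine Eq.trans ?_ (Opens.map_comp_obj _ _ _)
  change (Opens.map (Y.map g.base)).obj (lev (Yα Y α) U ⦋n⦌) =
    (Opens.map (Y.map (R.pr g.base) ≫ Y.map ((β α).map (δ (0 : Fin (n + 2))).op))).obj _
  rw [← Y.map_comp, R.pr_zero]

/-- The prepended arrow. -/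
def prM (R : Prep α) {U : Opens ((Yα Y α).obj (bot DS))} {X : ∫ᶜ (topAug Y)} {n : ℕ}
    (g : X ⟶ (Tpart Y α).obj (pb (Yα Y α) U ⦋n⦌)) : X ⟶ (Tpart Y α).obj (pb (Yα Y α) U ⦋n + 1⦌) :=
  homMk Y (a := X) (b := (Tpart Y α).obj (pb (Yα Y α) U ⦋n + 1⦌)) (R.pr g.base) (prep_le R g)

theorem injective_obj' (N : TSh Y) [Injective N] : Injective N.obj :=
  Injective.injective_of_adjoint (sheafificationAdjunction (totAug (topAug Y) (topAugTop Y)) AddCommGrpCat.{u}) N

theorem exact_rpart (R : Prep α) (N : TSh Y) [Injective N] (U : Opens ((Yα Y α).obj (bot DS))) (n : ℕ)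
    (c : val ((rpart Y α).obj N) U (n + 1)) (hc : dv ((rpart Y α).obj N) U (n + 1) c = 0) :
    ∃ b, dv ((rpart Y α).obj N) U n b = c := by
  haveI := injective_obj' N
  obtain ⟨r, hr⟩ := exists_allR N.obj
  let p := fun (m : ℕ) => (Tpart Y α).obj (pb (Yα Y α) U ⦋m⦌)
  let d := fun {m : ℕ} (i : Fin (m + 2)) => ((Tpart Y α).map (cof (Yα Y α) U (δ i)) : p (m + 1) ⟶ p m)
  have e0 : ∀ {X} (g : X ⟶ p (n + 1)), prM R g ≫ d 0 = g := fun g => hom_ext Y (R.pr_zero g.base)
  have e1 : ∀ {X} (g : X ⟶ p (n + 1)) (j : Fin (n + 2)), prM R g ≫ d j.succ = prM R (g ≫ d j) :=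
    fun g j => hom_ext Y (R.pr_succ g.base j)
  let e : (allE N.obj).obj (op (p n)) := fun X g => N.obj.map (prM R g).op c
  refine ⟨r.app _ e, ?_⟩
  rw [dv_apply]
  change ∑ i : Fin (n + 2), (-1 : ℤ) ^ (i : ℕ) • N.obj.map (d i).op (r.app _ e) = c
  simp only [← NatTrans.naturality_apply r, ← map_zsmul, ← map_sum]
  refine Eq.trans ?_ (hr _ c)
  refine congrArg (r.app _) (funext fun X => funext fun g => ?_)
  rw [Finset.sum_apply, Finset.sum_apply]
  simp only [Pi.smul_apply]
  change ∑ i : Fin (n + 2), (-1 : ℤ) ^ (i : ℕ) • N.obj.map (prM R (g ≫ d i)).op c = N.obj.map g.op c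
  have h : N.obj.map (prM R g).op (dv ((rpart Y α).obj N) U (n + 1) c) = 0 := by rw [hc, map_zero]
  rw [dv_apply] at h
  change N.obj.map (prM R g).op (∑ i : Fin (n + 3), (-1 : ℤ) ^ (i : ℕ) • N.obj.map (d i).op c) = 0 at h
  rw [map_sum, Fin.sum_univ_succ] at h
  simp only [map_zsmul, ← ConcreteCategory.comp_apply, ← Functor.map_comp, ← op_comp, e0, e1,
    Fin.val_zero, pow_zero, one_smul, Fin.val_succ, pow_succ, mul_neg, mul_one, neg_smul,
    Finset.sum_neg_distrib] at h
  simp only [map_neg, map_zsmul, Finset.sum_neg_distrib, ← ConcreteCategory.comp_apply, ← Functor.map_comp,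
    ← op_comp, e1] at h
  rw [← sub_eq_add_neg, sub_eq_zero] at h
  exact h.symm

theorem flasque_rpart (N : TSh Y) [Injective N] (n : ℕ) :
    TopCat.Sheaf.IsFlasque ((rsP (Yα Y α) n).obj ((rpart Y α).obj N)) := by
  refine ⟨fun {U V} i => (AddCommGrpCat.epi_iff_surjective _).2 fun x => ?_⟩
  classical
  haveI := injective_obj' N
  obtain ⟨r, hr⟩ := exists_allR N.obj
  let a := (Tpart Y α).map ((ι (part (topAug (Yα Y α))) (op ⦋n⦌)).map i.unop)
  let e : (allE N.obj).obj (op ((Tpart Y α).obj (mkObjPart (Yα Y α) (op ⦋n⦌) U.unop))) := fun X g =>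
    if hg : ∃ g', g' ≫ a = g then N.obj.map hg.choose.op x else 0
  refine ⟨r.app _ e, ?_⟩
  refine ((NatTrans.naturality_apply r a.op e).symm.trans ?_).trans (hr _ x)
  refine congrArg (r.app _) (funext fun X => funext fun g => ?_)
  change e X (g ≫ a) = N.obj.map g.op x
  have hg : ∃ g', g' ≫ a = g ≫ a := ⟨g, rfl⟩
  change dite _ _ _ = _
  rw [dif_pos hg]
  have e1 := congrArg Pseudofunctor.CoGrothendieck.Hom.base hg.choose_spec
  have ha : a.base = 𝟙 _ := (α.op.map_id _).symm ▸ (congrArg α.op.map ((toAug DS).map_id _))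
  simp only [Pseudofunctor.CoGrothendieck.categoryStruct_comp_base, ha] at e1
  rw [show hg.choose = g from hom_ext Y ((Category.comp_id _).symm.trans (e1.trans (Category.comp_id _)))]

theorem isRes_rpart (R : Prep α) (N : TSh Y) [Injective N] : IsRes ((rpart Y α).obj N) :=
  ⟨fun U n c hc => exact_rpart R N U n c hc, fun n => flasque_rpart N n⟩

end Groth.Agent.FibHyper8
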