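import Groth.Agent.Lib.FibHyper8.Flasque
import Groth.Agent.Lib.FibProper8.Main
import Mathlib.Algebra.Homology.DerivedCategory.HomologySequence

/-!
# The direct image to the base of complexes of sheaves with exact flasque levels
-/

set_option autoImplicit false
set_option backward.isDefEq.respectTransparency false
set_option backward.isDefEq.respectTransparency.types false
set_option maxHeartbeats 1000000

universe u

open CategoryTheory CategoryTheory.Limits Opposite TopologicalSpace FibDesc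
open SimplexCategory
open scoped Simplicial
open Groth.Agent.FibSplit8 Groth.Agent.FibLocal8 Groth.Agent.RFPlus Groth.Agent.FibProper8

noncomputable section

namespace Groth.Agent.FibHyper8

variable {Y : (WithInitial SimplexCategory)ᵒᵖ ⥤ TopCat.{u}}

local notation "DS" => SimplexCategory
local notation "cS" => ComplexShape.up ℤ

/-- The augmented levels are exact in positive degrees and flasque. -/
structure IsRes (M : PSh Y) : Prop where
  exact : ∀ (U : Opens (Y.obj (bot DS))) (n : ℕ) (c : val M U (n + 1)), dv M U (n + 1) c = 0 → ∃ b, dv M U n b = c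
  flasque : ∀ n, TopCat.Sheaf.IsFlasque ((rsP Y n).obj M)

theorem isRes_injective (M : PSh Y) [Injective M] : IsRes M :=
  ⟨fun U n c hc => exists_dv M (U := U) n c hc, fun n => isFlasque_rsP n M⟩

theorem isRes_biprod {M N : PSh Y} (hM : IsRes M) (hN : IsRes N) : IsRes (M ⊞ N) := by
  refine ⟨fun U n c hc => ?_, fun n => ?_⟩
  · have hnat : ∀ {A B : PSh Y} (φ : A ⟶ B) (k : ℕ) (x : val A U k),
        dv B U k (φ.hom.app _ x) = φ.hom.app _ (dv A U k x) := fun φ k x =>
      ConcreteCategory.congr_hom (congrArg (fun t => t.app (op U)) ((drow Y k).naturality φ)) x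
    obtain ⟨a, ha⟩ := hM.exact U n ((biprod.fst : M ⊞ N ⟶ M).hom.app _ c) (by rw [hnat, hc, map_zero])
    obtain ⟨b, hb⟩ := hN.exact U n ((biprod.snd : M ⊞ N ⟶ N).hom.app _ c) (by rw [hnat, hc, map_zero])
    refine ⟨(biprod.inl : M ⟶ M ⊞ N).hom.app _ a + (biprod.inr : N ⟶ M ⊞ N).hom.app _ b, ?_⟩
    rw [map_add, hnat, hnat, ha, hb]
    exact ConcreteCategory.congr_hom (congrArg (fun φ => φ.hom.app (op (pb Y U ⦋n + 1⦌)))
      (biprod.total (X := M) (Y := N))) c
  · haveI := preservesBinaryBiproducts_of_preservesBinaryProducts (rsP Y n)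
    exact flasque_of_iso ((rsP Y n).mapBiprod M N).symm (flasque_biprod (hM.flasque n) (hN.flasque n))

theorem isRes_of_iso {M N : PSh Y} (e : M ≅ N) (hM : IsRes M) : IsRes N := by
  refine ⟨fun U n c hc => ?_, fun n => flasque_of_iso ((rsP Y n).mapIso e) (hM.flasque n)⟩
  have hnat : ∀ {A B : PSh Y} (φ : A ⟶ B) (k : ℕ) (x : val A U k),
      dv B U k (φ.hom.app _ x) = φ.hom.app _ (dv A U k x) := fun φ k x =>
    ConcreteCategory.congr_hom (congrArg (fun t => t.app (op U)) ((drow Y k).naturality φ)) x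
  obtain ⟨b, hb⟩ := hM.exact U n (e.inv.hom.app _ c) (by rw [hnat, hc, map_zero])
  refine ⟨e.hom.hom.app _ b, ?_⟩
  rw [hnat, hb]
  exact ConcreteCategory.congr_hom (congrArg (fun φ => φ.hom.app (op (pb Y U ⦋n + 1⦌))) e.inv_hom_id) c

theorem exactAt_push {C : CochainComplex (PSh Y) ℤ} (a : ℤ) [C.IsStrictlyGE a] (hC : ∀ p, IsRes (C.X p))
    (N : ℕ) (hn : ∀ n ≤ N, (((rsP Y n).mapHomologicalComplex cS).obj C).Acyclic) (p : ℤ) (hp : p ≤ a + N) :
    (((push (topAug Y) (topAugTop Y) AddCommGrpCat.{u}).mapHomologicalComplex cS).obj C).ExactAt p := by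
  have hsec : ∀ n ≤ N, ∀ (U : Opens (Y.obj (bot DS))) (q : ℤ) (z : val (C.X q) U n),
      (C.d q (q + 1)).hom.app _ z = 0 → ∃ w, (C.d (q - 1) q).hom.app _ w = z := fun n hnN U q z hz => by
    haveI : CochainComplex.IsStrictlyGE (((rsP Y n).mapHomologicalComplex cS).obj C) a :=
      CochainComplex.isStrictlyGE_iff _ _ |>.2 fun i hi =>
        (show IsZero ((rsP Y n).obj (C.X i)) from (rsP Y n).map_isZero (C.isZero_of_isStrictlyGE a i hi))
    have h := acyclic_Sec (lev Y U ⦋n⦌) (C := ((rsP Y n).mapHomologicalComplex cS).obj C) a (hn n hnN)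
      (fun k => (hC k).flasque n) q
    rw [HomologicalComplex.exactAt_iff' _ (q - 1) q (q + 1) (by simp) (by simp), ShortComplex.ab_exact_iff] at h
    exact h z hz
  have hnat : ∀ (U : Opens (Y.obj (bot DS))) (n : ℕ) (i j : ℤ) (x : val (C.X i) U n),
      dv (C.X j) U n ((C.d i j).hom.app _ x) = (C.d i j).hom.app _ (dv (C.X i) U n x) := fun U n i j x =>
    ConcreteCategory.congr_hom (congrArg (fun t => t.app (op U)) ((drow Y n).naturality (C.d i j))) x
  have key : ∀ (k n : ℕ) (q : ℤ), n + k ≤ N + 1 → q < a + k → ∀ (U : Opens (Y.obj (bot DS))) (z : val (C.X q) U n),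
      (C.d q (q + 1)).hom.app _ z = 0 → dv (C.X q) U n z = 0 →
      ∃ y, dv (C.X (q - 1)) U n y = 0 ∧ (C.d (q - 1) q).hom.app _ y = z := by
    intro k
    induction k with
    | zero =>
      intro n q _ hq U z _ _
      refine ⟨0, map_zero _, (map_zero _).trans ?_⟩
      have h0 := congrArg (fun φ => φ.hom.app (op (pb Y U ⦋n⦌)))
        ((C.isZero_of_isStrictlyGE a q (by simpa using hq)).eq_of_src (𝟙 (C.X q)) 0)
      exact (ConcreteCategory.congr_hom h0 z).symm
    | succ k ih =>
      intro n q hk hq U z hv hh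
      obtain ⟨w, rfl⟩ := hsec n (by omega) U q z hv
      rw [hnat] at hh
      have h2 : (C.d (q - 1) (q - 1 + 1)).hom.app _ (dv (C.X (q - 1)) U n w) = 0 := by
        rw [show q - 1 + 1 = q by omega]; exact hh
      obtain ⟨y', hy'h, hy'⟩ := ih (n + 1) (q - 1) (by omega) (by push_cast at hq ⊢; omega) U _ h2 (dv_dv (C.X (q - 1)) n w)
      obtain ⟨v, hv'⟩ := (hC (q - 1 - 1)).exact U n y' hy'h
      refine ⟨w - (C.d (q - 1 - 1) (q - 1)).hom.app _ v, ?_, ?_⟩
      · rw [map_sub, hnat, hv', hy', sub_self]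
      · rw [map_sub]
        exact (congrArg (_ - ·) (ConcreteCategory.congr_hom
          (congrArg (fun φ => φ.hom.app (op (pb Y U ⦋n⦌))) (C.d_comp_d (q - 1 - 1) (q - 1) q)) v)).trans (sub_zero _)
  let P := push (topAug Y) (topAugTop Y) AddCommGrpCat.{u}
  have hiota : ∀ (U : Opens (Y.obj (bot DS))) (i j : ℤ) (x : (P.obj (C.X i)).obj.obj (op U)),
      iota U (C.X j) ((P.map (C.d i j)).hom.app _ x) = (C.d i j).hom.app _ (iota U (C.X i) x) := fun U i j x =>
    ConcreteCategory.congr_hom (congrArg (fun t => t.app (op U)) ((irow Y).naturality (C.d i j))) x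
  have hex : ∀ (U : Opens (Y.obj (bot DS))) (x : (P.obj (C.X p)).obj.obj (op U)),
      (P.map (C.d p (p + 1))).hom.app _ x = 0 → ∃ w, (P.map (C.d (p - 1) p)).hom.app _ w = x := fun U x hx => by
    have h1 : (C.d p (p + 1)).hom.app _ (iota U (C.X p) x) = 0 := by rw [← hiota, hx, map_zero]
    have hk : ((p + 1 - a).toNat : ℕ) ≤ N + 1 := by omega
    obtain ⟨y, hy, hyx⟩ := key (p + 1 - a).toNat 0 p (by omega) (by omega) U _ h1 (dv_iota U (C.X p) x)
    obtain ⟨b, rfl⟩ := exists_iota U (C.X (p - 1)) y hy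
    exact ⟨b, iota_injective U (C.X p) ((hiota U (p - 1) p b).trans hyx)⟩
  let D := ((P.mapHomologicalComplex cS).obj C)
  rw [HomologicalComplex.exactAt_iff' _ (p - 1) p (p + 1) (by simp) (by simp), ShortComplex.exact_iff_epi_kernel_lift]
  let S := D.sc' (p - 1) p (p + 1)
  refine (sheafToPresheaf _ _).epi_of_epi_map ?_
  haveI : ∀ V, Epi (((sheafToPresheaf _ _).map (kernel.lift S.g S.f S.zero)).app V) := fun V => by
    refine (AddCommGrpCat.epi_iff_surjective _).2 fun y => ?_
    have hy : (P.map (C.d p (p + 1))).hom.app _ ((kernel.ι S.g).hom.app V y) = 0 :=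
      ConcreteCategory.congr_hom (congrArg (fun φ => φ.hom.app V) (kernel.condition S.g)) y
    obtain ⟨w, hw⟩ := hex V.unop _ hy
    refine ⟨w, ?_⟩
    haveI : Mono ((Sec V.unop).map (kernel.ι S.g)) := inferInstance
    apply (AddCommGrpCat.mono_iff_injective ((Sec V.unop).map (kernel.ι S.g))).1 inferInstance
    exact (ConcreteCategory.congr_hom (congrArg (fun φ => φ.hom.app V) (kernel.lift_ι S.g S.f S.zero)) w).trans hw
  exact NatTrans.epi_of_epi_app _

theorem isIso_homologyMap_of_cone' {A : Type*} [Category* A] [Abelian A] {P Q : CochainComplex A ℤ} (f : P ⟶ Q) (p : ℤ)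
    (h₁ : (CochainComplex.mappingCone f).ExactAt (p - 1)) (h₂ : (CochainComplex.mappingCone f).ExactAt p) :
    IsIso (HomologicalComplex.homologyMap f p) := by
  letI := HasDerivedCategory.standard A
  have hT := DerivedCategory.mappingCone_triangle_distinguished f
  have hz : ∀ i, (CochainComplex.mappingCone f).ExactAt i → IsZero ((DerivedCategory.homologyFunctor _ i).obj
      (DerivedCategory.Q.obj (CochainComplex.mappingCone f))) := fun i h =>
    ((HomologicalComplex.exactAt_iff_isZero_homology _ i).1 h).of_iso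
      ((DerivedCategory.homologyFunctorFactors _ i).app _)
  haveI : Epi ((DerivedCategory.homologyFunctor _ p).map (DerivedCategory.Q.map f)) :=
    (DerivedCategory.HomologySequence.epi_homologyMap_mor₁_iff _ hT p).2 ((hz p h₂).eq_of_tgt _ _)
  haveI : Mono ((DerivedCategory.homologyFunctor _ p).map (DerivedCategory.Q.map f)) :=
    (DerivedCategory.HomologySequence.mono_homologyMap_mor₁_iff _ hT (p - 1) p (by omega)).2
      ((hz (p - 1) h₁).eq_of_src _ _)
  haveI := isIso_of_mono_of_epi ((DerivedCategory.homologyFunctor _ p).map (DerivedCategory.Q.map f))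
  exact (NatIso.isIso_map_iff (DerivedCategory.homologyFunctorFactors _ p) f).1 this

/-- Levelwise quasi-isomorphisms in low levels give isomorphisms in low degrees. -/
theorem isIso_homologyMap_push {K L : CochainComplex (PSh Y) ℤ} (θ : K ⟶ L) (a : ℤ) [K.IsStrictlyGE a]
    [L.IsStrictlyGE a] (hK : ∀ p, IsRes (K.X p)) (hL : ∀ p, IsRes (L.X p)) (N : ℕ)
    (hn : ∀ n ≤ N, _root_.QuasiIso (((rsP Y n).mapHomologicalComplex cS).map θ)) (i : ℤ) (hi : i < a + N) :
    IsIso (HomologicalComplex.homologyMap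
      (((push (topAug Y) (topAugTop Y) AddCommGrpCat.{u}).mapHomologicalComplex cS).map θ) i) := by
  haveI : CochainComplex.IsStrictlyGE (CochainComplex.mappingCone θ) (a - 1) :=
    CochainComplex.isStrictlyGE_iff _ _ |>.2 fun p hp => IsZero.of_iso ((biprod_isZero_iff _ _).2
      ⟨K.isZero_of_isStrictlyGE a (p + 1) (by omega), L.isZero_of_isStrictlyGE a p (by omega)⟩)
      (HomologicalComplex.homotopyCofiber.XIsoBiprod θ p (p + 1) rfl)
  have hX : ∀ p, IsRes ((CochainComplex.mappingCone θ).X p) := fun p =>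
    isRes_of_iso (HomologicalComplex.homotopyCofiber.XIsoBiprod θ p (p + 1) rfl).symm
      (isRes_biprod (hK (p + 1)) (hL p))
  have h := fun (p : ℤ) (hp : p ≤ a - 1 + N) => exactAt_push (C := CochainComplex.mappingCone θ) (a - 1) hX N
    (fun n hnN q => (((quasiIso_iff_acyclic_cone _).1 (hn n hnN)) q).of_iso
      (CochainComplex.mappingCone.mapHomologicalComplexIso θ (rsP Y n)).symm) p hp
  let P := push (topAug Y) (topAugTop Y) AddCommGrpCat.{u}
  exact isIso_homologyMap_of_cone' _ i
    ((h (i - 1) (by omega)).of_iso (CochainComplex.mappingCone.mapHomologicalComplexIso θ P))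
    ((h i (by omega)).of_iso (CochainComplex.mappingCone.mapHomologicalComplexIso θ P))

theorem quasiIso_push {K L : CochainComplex (PSh Y) ℤ} (θ : K ⟶ L) (a : ℤ) [K.IsStrictlyGE a]
    [L.IsStrictlyGE a] (hK : ∀ p, IsRes (K.X p)) (hL : ∀ p, IsRes (L.X p))
    (hn : ∀ n, _root_.QuasiIso (((rsP Y n).mapHomologicalComplex cS).map θ)) :
    _root_.QuasiIso (((push (topAug Y) (topAugTop Y) AddCommGrpCat.{u}).mapHomologicalComplex cS).map θ) :=
  ⟨fun i => (quasiIsoAt_iff_isIso_homologyMap _ i).2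
    (isIso_homologyMap_push θ a hK hL ((i - a).toNat + 1) (fun n _ => hn n) i (by omega))⟩

end Groth.Agent.FibHyper8
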