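import Groth.Agent.Lib.FibHyper8.Hom

/-!
# Descent of families agreeing in low degrees, and of retracts
-/

set_option autoImplicit false
set_option backward.isDefEq.respectTransparency false
set_option backward.isDefEq.respectTransparency.types false
set_option maxHeartbeats 1000000

universe u

open CategoryTheory CategoryTheory.Limits Opposite TopologicalSpace Pseudofunctor.CoGrothendieck FibDesc
open SimplexCategory
open scoped Simplicial
open Groth.Agent.FibSplit8 Groth.Agent.FibLocal8 Groth.Agent.RFPlus Groth.Agent.FibProper8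

noncomputable section

namespace Groth.Agent.FibHyper8

local notation "DS" => SimplexCategory
local notation "cS" => ComplexShape.up ℤ

/-- The adjunct of every resolution is invertible on homology in degree `i`, for complexes above `a`. -/
def EtaIso (Y : (WithInitial DS)ᵒᵖ ⥤ TopCat.{u}) (a i : ℤ) : Prop :=
  ∀ (L : CochainComplex (Sheaf (topAugTop Y (bot DS)) AddCommGrpCat.{u}) ℤ) (_ : L.IsStrictlyGE a)
    (J : CochainComplex (PSh Y) ℤ) (_ : J.IsStrictlyGE a) (_ : ∀ p, Injective (J.X p))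
    (q : ((pull (topAug Y) (topAugTop Y) AddCommGrpCat.{u}).mapHomologicalComplex cS).obj L ⟶ J)
    (_ : _root_.QuasiIso q),
    IsIso (HomologicalComplex.homologyMap (adjunct (FibDesc.adj (topAug Y) (topAugTop Y) AddCommGrpCat.{u}) q) i)

theorem isStrictlyGE_pull {Y : (WithInitial DS)ᵒᵖ ⥤ TopCat.{u}}
    (L : CochainComplex (Sheaf (topAugTop Y (bot DS)) AddCommGrpCat.{u}) ℤ) (a : ℤ) [L.IsStrictlyGE a] :
    CochainComplex.IsStrictlyGE
      (((pull (topAug Y) (topAugTop Y) AddCommGrpCat.{u}).mapHomologicalComplex cS).obj L) a :=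
  CochainComplex.isStrictlyGE_iff _ _ |>.2 fun i hi =>
    (show IsZero ((pull (topAug Y) (topAugTop Y) AddCommGrpCat.{u}).obj (L.X i)) from
      (pull (topAug Y) (topAugTop Y) AddCommGrpCat.{u}).map_isZero (CochainComplex.isZero_of_isStrictlyGE L a i hi))

theorem exists_res {Y : (WithInitial DS)ᵒᵖ ⥤ TopCat.{u}}
    (L : CochainComplex (Sheaf (topAugTop Y (bot DS)) AddCommGrpCat.{u}) ℤ) (a : ℤ) [L.IsStrictlyGE a] :
    ∃ (J : CochainComplex (PSh Y) ℤ)
      (q : ((pull (topAug Y) (topAugTop Y) AddCommGrpCat.{u}).mapHomologicalComplex cS).obj L ⟶ J),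
      _root_.QuasiIso q ∧ (∀ p, Injective (J.X p)) ∧ J.IsStrictlyGE a := by
  haveI := isStrictlyGE_pull L a
  obtain ⟨J, q, h1, h2, h3⟩ := CochainComplex.Plus.modelCategoryQuillen.exists_quasiIso_injective
    (((pull (topAug Y) (topAugTop Y) AddCommGrpCat.{u}).mapHomologicalComplex cS).obj L) a
  exact ⟨J, q, h1, h2, h3⟩

theorem etaIso_of_descent {Y : (WithInitial DS)ᵒᵖ ⥤ TopCat.{u}} (h : IsCohDescentTop Y) (a i : ℤ) : EtaIso Y a i := by
  intro L _ J _ hJ q hq
  letI := HasDerivedCategory.standard (BaseSh (topAug Y) (topAugTop Y) AddCommGrpCat.{u})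
  letI := HasDerivedCategory.standard (DSh (topAug Y) (topAugTop Y) AddCommGrpCat.{u})
  haveI := hq
  haveI := hJ
  haveI : J.IsKInjective := CochainComplex.isKInjective_of_injective J a
  obtain ⟨_, _, _, _, _, _, hb⟩ := h
  have h' := quasiIso_adjunct_of_bijective (FibDesc.adj (topAug Y) (topAugTop Y) AddCommGrpCat.{u}) q ⟨a, inferInstance⟩ hb
  exact (quasiIsoAt_iff_isIso_homologyMap _ i).1 (h'.quasiIsoAt i)

theorem descent_of_etaIso {Y : (WithInitial DS)ᵒᵖ ⥤ TopCat.{u}} (h : ∀ a i, EtaIso Y a i) : IsCohDescentTop Y := by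
  letI := HasDerivedCategory.standard (BaseSh (topAug Y) (topAugTop Y) AddCommGrpCat.{u})
  letI := HasDerivedCategory.standard (DSh (topAug Y) (topAugTop Y) AddCommGrpCat.{u})
  refine ⟨eps_continuous _, inferInstance, incl_continuous _, incl_cocontinuous _, fun P => inferInstance,
    preservesFiniteLimits_pull, fun K M => ?_⟩
  obtain ⟨a, ha⟩ := M.property
  haveI : DerivedCategory.IsGE M.obj a := ha
  obtain ⟨L, hL, ⟨eL⟩⟩ := DerivedCategory.exists_iso_Q_obj_of_isGE M.obj a
  obtain ⟨J, q, hq, hJ, hge⟩ := exists_res L a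
  haveI := hq
  haveI : J.IsKInjective := CochainComplex.isKInjective_of_injective J a
  have hη : _root_.QuasiIso (adjunct (FibDesc.adj (topAug Y) (topAugTop Y) AddCommGrpCat.{u}) q) :=
    ⟨fun i => (quasiIsoAt_iff_isIso_homologyMap _ i).2 (h a i L hL J hge hJ q hq)⟩
  have h := bijective_map_of_quasiIso (FibDesc.adj (topAug Y) (topAugTop Y) AddCommGrpCat.{u}) q hη K.obj
  refine (congrArg Function.Bijective (funext fun g => ?_)).mp
    ((((pull (topAug Y) (topAugTop Y) AddCommGrpCat.{u}).mapDerivedCategory.mapIso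
      eL.symm).homToEquiv).bijective.comp (h.comp eL.homToEquiv.bijective))
  simp [← Functor.map_comp]

theorem isIso_homologyMap_of_homotopy {C : Type*} [Category* C] [Abelian C] {K L : CochainComplex C ℤ} {f g : K ⟶ L}
    (H : Homotopy f g) (i : ℤ) [IsIso (HomologicalComplex.homologyMap g i)] :
    IsIso (HomologicalComplex.homologyMap f i) := by
  rw [H.homologyMap_eq i]; infer_instance

section Low

variable {Y' Y : (WithInitial DS)ᵒᵖ ⥤ TopCat.{u}} (Φ : Y' ⟶ Y)

theorem rsP_map_eq (n : ℕ) {M : PSh Y} {M' : PSh Y'} (θ : M ⟶ (PΦ Φ).obj M') :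
    (rsP Y n).map θ = (kA Φ (idx ⦋n⦌)).unit.app _ ≫ (kP Φ (idx ⦋n⦌)).map (lift' n θ) ≫ (cmpN n).hom.app M' := by
  have h : (kA Φ (idx ⦋n⦌)).unit.app _ ≫ (kP Φ (idx ⦋n⦌)).map (lift' n θ) =
      (rsP Y n).map θ ≫ (cmpN n).inv.app M' :=
    ((Adjunction.homEquiv_unit _ _ _ _).symm.trans (Equiv.apply_symm_apply _ _))
  rw [← Category.assoc, h, Category.assoc, Iso.inv_hom_id_app]
  exact (Category.comp_id _).symm

theorem quasiIso_level [IsIso (Φ.app (bot DS))] (n : ℕ) [IsIso (Φ.app (idx ⦋n⦌))]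
    {L : CochainComplex (Sheaf (topAugTop Y (bot DS)) AddCommGrpCat.{u}) ℤ}
    {J : CochainComplex (PSh Y) ℤ}
    (q : ((pull (topAug Y) (topAugTop Y) AddCommGrpCat.{u}).mapHomologicalComplex cS).obj L ⟶ J) [_root_.QuasiIso q]
    {J' : CochainComplex (PSh Y') ℤ}
    (q' : ((pull (topAug Y') (topAugTop Y') AddCommGrpCat.{u}).mapHomologicalComplex cS).obj
      (((kL Φ (bot DS)).mapHomologicalComplex cS).obj L) ⟶ J') [_root_.QuasiIso q']
    (θ : J ⟶ ((PΦ Φ).mapHomologicalComplex cS).obj J')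
    (H : Homotopy (q ≫ θ) (xiC Φ L ≫ ((PΦ Φ).mapHomologicalComplex cS).map q')) :
    _root_.QuasiIso (((rsP Y n).mapHomologicalComplex cS).map θ) := by
  haveI : IsIso (liftC n (xiC Φ L)) :=
    haveI : ∀ p, IsIso ((liftC n (xiC Φ L)).f p) := fun p => inferInstanceAs (IsIso (lift' n (xiP Φ (L.X p))))
    HomologicalComplex.Hom.isIso_of_components _
  have e1 : liftC n (xiC Φ L ≫ ((PΦ Φ).mapHomologicalComplex cS).map q') =
      liftC n (xiC Φ L) ≫ ((rsP Y' n).mapHomologicalComplex cS).map q' := by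
    ext p : 1
    exact lift'_map n _ _
  haveI : _root_.QuasiIso (liftC n (xiC Φ L ≫ ((PΦ Φ).mapHomologicalComplex cS).map q')) := by
    rw [e1]
    haveI : _root_.QuasiIso (((rsP Y' n).mapHomologicalComplex cS).map q') :=
      (FibDouble8.quasiIso_map_iff _ _).2 fun k => by
        haveI : IsIso (HomologicalComplex.homologyMap q' k) :=
          (quasiIsoAt_iff_isIso_homologyMap _ k).1 ((inferInstance : _root_.QuasiIso q').quasiIsoAt k)
        exact Functor.map_isIso _ _
    exact quasiIso_comp _ _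
  haveI hqθ : _root_.QuasiIso (liftC n (q ≫ θ)) := quasiIso_of_homotopy (homotopyLiftC n H)
  have e2 : liftC n (q ≫ θ) = ((kL Φ (idx ⦋n⦌)).mapHomologicalComplex cS).map
      (((rsP Y n).mapHomologicalComplex cS).map q) ≫ liftC n θ := by
    ext p : 1
    exact lift'_comp n _ _
  rw [e2] at hqθ
  haveI := hqθ
  haveI : _root_.QuasiIso (((kL Φ (idx ⦋n⦌)).mapHomologicalComplex cS).map
      (((rsP Y n).mapHomologicalComplex cS).map q)) := (FibDouble8.quasiIso_map_iff _ _).2 fun k => by
        haveI : IsIso (HomologicalComplex.homologyMap (((rsP Y n).mapHomologicalComplex cS).map q) k) :=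
          inferInstance
        exact Functor.map_isIso _ _
  haveI : _root_.QuasiIso (liftC n θ) := quasiIso_of_comp_left
    (((kL Φ (idx ⦋n⦌)).mapHomologicalComplex cS).map (((rsP Y n).mapHomologicalComplex cS).map q)) _
  haveI : (kP Φ (idx ⦋n⦌)).IsEquivalence := isEquivalence_push (Φ.app (idx ⦋n⦌))
  haveI : _root_.QuasiIso (((kP Φ (idx ⦋n⦌)).mapHomologicalComplex cS).map (liftC n θ)) :=
    (FibDouble8.quasiIso_map_iff _ _).2 fun k => by
      haveI : IsIso (HomologicalComplex.homologyMap (liftC n θ) k) :=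
        (quasiIsoAt_iff_isIso_homologyMap _ k).1 ((inferInstance : _root_.QuasiIso (liftC n θ)).quasiIsoAt k)
      exact Functor.map_isIso _ _
  let u₁ : ((rsP Y n).mapHomologicalComplex cS).obj J ⟶ ((kP Φ (idx ⦋n⦌)).mapHomologicalComplex cS).obj
      (((kL Φ (idx ⦋n⦌)).mapHomologicalComplex cS).obj (((rsP Y n).mapHomologicalComplex cS).obj J)) :=
    { f := fun p => (kA Φ (idx ⦋n⦌)).unit.app _
      comm' := fun i j _ => ((kA Φ (idx ⦋n⦌)).unit.naturality _).symm }
  let u₂ : ((kP Φ (idx ⦋n⦌)).mapHomologicalComplex cS).obj (((rsP Y' n).mapHomologicalComplex cS).obj J') ⟶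
      ((rsP Y n).mapHomologicalComplex cS).obj (((PΦ Φ).mapHomologicalComplex cS).obj J') :=
    { f := fun p => (cmpN n).hom.app _
      comm' := fun i j _ => ((cmpN n).hom.naturality _).symm }
  haveI : IsIso u₁ :=
    haveI : ∀ p, IsIso (u₁.f p) := fun p => isIso_unit_push (Φ.app (idx ⦋n⦌)) _
    HomologicalComplex.Hom.isIso_of_components _
  haveI : IsIso u₂ :=
    haveI : ∀ p, IsIso (u₂.f p) := fun p => inferInstanceAs (IsIso ((cmpN n).hom.app _))
    HomologicalComplex.Hom.isIso_of_components _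
  have e3 : ((rsP Y n).mapHomologicalComplex cS).map θ =
      u₁ ≫ ((kP Φ (idx ⦋n⦌)).mapHomologicalComplex cS).map (liftC n θ) ≫ u₂ := by
    ext p : 1
    exact rsP_map_eq Φ n (θ.f p)
  rw [e3]
  infer_instance

/-- Replace a complex on the base by an isomorphic one. -/
theorem adjunct_iso_comp {L₁ L₂ : CochainComplex (Sheaf (topAugTop Y (bot DS)) AddCommGrpCat.{u}) ℤ} (c : L₁ ⟶ L₂)
    {J : CochainComplex (PSh Y) ℤ}
    (q : ((pull (topAug Y) (topAugTop Y) AddCommGrpCat.{u}).mapHomologicalComplex cS).obj L₂ ⟶ J) :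
    adjunct (FibDesc.adj (topAug Y) (topAugTop Y) AddCommGrpCat.{u})
        (((pull (topAug Y) (topAugTop Y) AddCommGrpCat.{u}).mapHomologicalComplex cS).map c ≫ q) =
      c ≫ adjunct (FibDesc.adj (topAug Y) (topAugTop Y) AddCommGrpCat.{u}) q :=
  Adjunction.homEquiv_naturality_left _ c q

/-- Families which agree in low degrees. -/
theorem etaIso_of_low [IsIso (Φ.app (bot DS))] (N : ℕ) (hN : ∀ n ≤ N, IsIso (Φ.app (idx ⦋n⦌)))
    (h : IsCohDescentTop Y) (a i : ℤ) (hi : i < a + N) : EtaIso Y' a i := by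
  intro L' hL' J' _ hJ' q' hq'
  haveI := hq'
  haveI : (kP Φ (bot DS)).IsEquivalence := isEquivalence_push (Φ.app (bot DS))
  let L : CochainComplex (Sheaf (topAugTop Y (bot DS)) AddCommGrpCat.{u}) ℤ :=
    ((kP Φ (bot DS)).mapHomologicalComplex cS).obj L'
  haveI : CochainComplex.IsStrictlyGE L a := CochainComplex.isStrictlyGE_iff _ _ |>.2 fun j hj =>
    (show IsZero ((kP Φ (bot DS)).obj (L'.X j)) from
      (kP Φ (bot DS)).map_isZero (CochainComplex.isZero_of_isStrictlyGE L' a j hj))
  let c : ((kL Φ (bot DS)).mapHomologicalComplex cS).obj L ≅ L' :=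
    HomologicalComplex.Hom.isoOfComponents (fun p => asIso ((kA Φ (bot DS)).counit.app (L'.X p)))
      fun j k _ => ((kA Φ (bot DS)).counit.naturality (L'.d j k)).symm
  let q'' := ((pull (topAug Y') (topAugTop Y') AddCommGrpCat.{u}).mapHomologicalComplex cS).map c.hom ≫ q'
  obtain ⟨J, q, hq, hJ, hge⟩ := exists_res L a
  haveI := hq
  obtain ⟨θ, ⟨H⟩⟩ := exists_compare Φ a q hJ' q''
  obtain ⟨H₁⟩ := nonempty_homotopy_adjunct Φ q q'' θ H
  haveI := etaIso_of_descent h a i L inferInstance J hge hJ q hq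
  haveI : CochainComplex.IsStrictlyGE (((PΦ Φ).mapHomologicalComplex cS).obj J') a :=
    CochainComplex.isStrictlyGE_iff _ _ |>.2 fun j hj =>
      (show IsZero ((PΦ Φ).obj (J'.X j)) from (PΦ Φ).map_isZero (CochainComplex.isZero_of_isStrictlyGE J' a j hj))
  haveI := isIso_homologyMap_push θ a (fun p => haveI := hJ p; isRes_injective _)
    (fun p => haveI := hJ' p; haveI := injective_PΦ Φ (J'.X p); (show IsRes ((PΦ Φ).obj (J'.X p)) from isRes_injective _))
    N (fun n hn => haveI := hN n hn; quasiIso_level Φ n q q'' θ H) i hi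
  have h1 : IsIso (HomologicalComplex.homologyMap (adjunct (FibDesc.adj (topAug Y) (topAugTop Y) AddCommGrpCat.{u}) q ≫
      ((push (topAug Y) (topAugTop Y) AddCommGrpCat.{u}).mapHomologicalComplex cS).map θ) i) := by
    rw [HomologicalComplex.homologyMap_comp]; infer_instance
  haveI h2 := @isIso_homologyMap_of_homotopy _ _ _ _ _ _ _ H₁.symm i h1
  rw [HomologicalComplex.homologyMap_comp, HomologicalComplex.homologyMap_comp] at h2
  haveI := h2
  haveI := IsIso.of_isIso_comp_left (HomologicalComplex.homologyMap (unitC Φ L).hom i)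
    (HomologicalComplex.homologyMap (((kP Φ (bot DS)).mapHomologicalComplex cS).map
      (adjunct (FibDesc.adj (topAug Y') (topAugTop Y') AddCommGrpCat.{u}) q'')) i ≫
      HomologicalComplex.homologyMap (transfer Φ J').hom i)
  haveI h3 := IsIso.of_isIso_comp_right (HomologicalComplex.homologyMap (((kP Φ (bot DS)).mapHomologicalComplex cS).map
      (adjunct (FibDesc.adj (topAug Y') (topAugTop Y') AddCommGrpCat.{u}) q'')) i)
      (HomologicalComplex.homologyMap (transfer Φ J').hom i)
  have h4 := (isIso_homologyMap_kP Φ _ i).1 h3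
  rw [adjunct_iso_comp, HomologicalComplex.homologyMap_comp] at h4
  haveI := h4
  exact IsIso.of_isIso_comp_left (HomologicalComplex.homologyMap c.hom i) _

end Low

section Retract

variable {Y' Y : (WithInitial DS)ᵒᵖ ⥤ TopCat.{u}} (s : Y' ⟶ Y) (r : Y ⟶ Y') (hsr : s ≫ r = 𝟙 Y')

include hsr in
theorem retract_app (i : (WithInitial DS)ᵒᵖ) : s.app i ≫ r.app i = 𝟙 _ := by
  rw [← NatTrans.comp_app, hsr]; rfl

/-- The composite of the direct images along a retraction. -/
def retIso : PΦ s ⋙ PΦ r ≅ 𝟭 (PSh Y') :=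
  NatIso.ofComponents (fun M => (fullyFaithfulSheafToPresheaf _ _).preimageIso
    (NatIso.ofComponents (fun X => M.obj.mapIso (Iso.op
      ({ hom := homMkPart (a := (ImP s).obj ((ImP r).obj X.unop)) (b := X.unop) (𝟙 _) (by
            rw [(toAug DS).map_id]
            refine le_of_eq (Eq.trans ?_ (map_id_obj _ _).symm)
            change (Opens.map (s.app _)).obj ((Opens.map (r.app _)).obj _) = _
            rw [← Opens.map_comp_obj, retract_app s r hsr]; rfl)
         inv := homMkPart (a := X.unop) (b := (ImP s).obj ((ImP r).obj X.unop)) (𝟙 _) (by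
            rw [(toAug DS).map_id]
            refine le_of_eq (Eq.trans ?_ (map_id_obj _ _).symm)
            change _ = (Opens.map (s.app _)).obj ((Opens.map (r.app _)).obj _)
            rw [← Opens.map_comp_obj, retract_app s r hsr]; rfl)
         hom_inv_id := hom_ext_part (Category.id_comp _)
         inv_hom_id := hom_ext_part (Category.id_comp _) } : (ImP s).obj ((ImP r).obj X.unop) ≅ X.unop)).symm)
      fun {X Z} g => by
        change M.obj.map _ ≫ M.obj.map _ = M.obj.map _ ≫ M.obj.map _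
        rw [← M.obj.map_comp, ← M.obj.map_comp]
        exact congrArg M.obj.map (Quiver.Hom.unop_inj (hom_ext_part
          ((Category.id_comp _).trans (Category.comp_id _).symm)))))
    fun φ => by
      apply Sheaf.hom_ext
      refine NatTrans.ext (funext fun X => ?_)
      exact (φ.hom.naturality _).symm

theorem gamma_gamma (M : PSh Y') :
    (kP r (bot DS)).map ((gamma s).app M) ≫ (gamma r).app ((PΦ s).obj M) ≫
        (push (topAug Y') (topAugTop Y') AddCommGrpCat.{u}).map ((retIso s r hsr).hom.app M) =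
      (pushPushInv (s.app (bot DS)) (r.app (bot DS)) (retract_app s r hsr _)).hom.app _ := by
  apply Sheaf.hom_ext
  refine NatTrans.ext (funext fun U => AddCommGrpCat.hom_ext (AddMonoidHom.ext fun x => ?_))
  apply iota_injective U.unop M
  refine (ConcreteCategory.congr_hom (congrArg (fun t => t.app U) ((irow Y').naturality ((retIso s r hsr).hom.app M))) _).trans ?_
  change ((retIso s r hsr).hom.app M).hom.app (op (pb Y' U.unop ⦋0⦌))
      (iota U.unop _ (((gamma r).app ((PΦ s).obj M)).hom.app (op U.unop)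
        (((gamma s).app M).hom.app (op ((Opens.map (r.app (bot DS))).obj U.unop)) x))) =
    iota U.unop M (((push (topAug Y') (topAugTop Y') AddCommGrpCat.{u}).obj M).obj.map _ x)
  refine (congrArg _ (iota_gamma r _ U.unop _)).trans ?_
  refine (congrArg _ (congrArg _ (iota_gamma s _ _ _))).trans ?_
  refine Eq.trans ?_ (NatTrans.naturality_apply ((irow Y').app M) _ x).symm
  change M.obj.map _ (M.obj.map _ (M.obj.map _ _)) = M.obj.map _ _
  refine (ConcreteCategory.congr_hom (M.obj.map_comp _ _) _).symm.trans ?_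
  refine (ConcreteCategory.congr_hom (M.obj.map_comp _ _) _).symm.trans ?_
  exact congrArg (fun t => M.obj.map t _) (Quiver.Hom.unop_inj (hom_ext_part rfl))

include hsr in
theorem retract_key {G : Sheaf (topAugTop Y (bot DS)) AddCommGrpCat.{u}} {M : PSh Y'}
    {G₃ : Sheaf (topAugTop Y' (bot DS)) AddCommGrpCat.{u}} (v : G ⟶ (kP s (bot DS)).obj G₃)
    (ψ : G₃ ⟶ (push (topAug Y') (topAugTop Y') AddCommGrpCat.{u}).obj M) :
    (kP r (bot DS)).map (v ≫ (kP s (bot DS)).map ψ ≫ (gamma s).app M) ≫ (gamma r).app ((PΦ s).obj M) ≫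
        (push (topAug Y') (topAugTop Y') AddCommGrpCat.{u}).map ((retIso s r hsr).hom.app M) =
      (kP r (bot DS)).map v ≫
        (pushPushInv (s.app (bot DS)) (r.app (bot DS)) (retract_app s r hsr _)).hom.app G₃ ≫ ψ := by
  have e := gamma_gamma s r hsr M
  have n := (pushPushInv (s.app (bot DS)) (r.app (bot DS)) (retract_app s r hsr _)).hom.naturality ψ
  rw [Functor.map_comp, Functor.map_comp, Category.assoc, Category.assoc]
  exact congrArg (_ ≫ ·) ((congrArg (_ ≫ ·) e).trans n)

include hsr in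
theorem homEquiv_retract (G : Sheaf (topAugTop Y' (bot DS)) AddCommGrpCat.{u}) {M : PSh Y'}
    (ψ : (pull (topAug Y') (topAugTop Y') AddCommGrpCat.{u}).obj
      ((kL s (bot DS)).obj ((kL r (bot DS)).obj G)) ⟶ M) :
    (FibDesc.adj (topAug Y') (topAugTop Y') AddCommGrpCat.{u}).homEquiv G M
        (xiP r G ≫ (PΦ r).map (xiP s ((kL r (bot DS)).obj G) ≫ (PΦ s).map ψ) ≫ (retIso s r hsr).hom.app M) =
      (kA r (bot DS)).unit.app G ≫ (kP r (bot DS)).map ((kA s (bot DS)).unit.app ((kL r (bot DS)).obj G)) ≫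
        (pushPushInv (s.app (bot DS)) (r.app (bot DS)) (retract_app s r hsr _)).hom.app _ ≫
          (FibDesc.adj (topAug Y') (topAugTop Y') AddCommGrpCat.{u}).homEquiv _ M ψ := by
  rw [← Category.assoc, Adjunction.homEquiv_naturality_right, homEquiv_xiP, homEquiv_xiP, Category.assoc]
  exact congrArg (_ ≫ ·) ((Category.assoc _ _ _).trans (retract_key s r hsr _ _))

include hsr in
theorem mono_of_retract [IsIso (s.app (bot DS))] [IsIso (r.app (bot DS))]
    {L : CochainComplex (Sheaf (topAugTop Y' (bot DS)) AddCommGrpCat.{u}) ℤ} (a : ℤ) [L.IsStrictlyGE a]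
    {J' : CochainComplex (PSh Y') ℤ} [J'.IsStrictlyGE a] (hJ' : ∀ p, Injective (J'.X p))
    (q' : ((pull (topAug Y') (topAugTop Y') AddCommGrpCat.{u}).mapHomologicalComplex cS).obj L ⟶ J')
    [_root_.QuasiIso q']
    {J : CochainComplex (PSh Y) ℤ}
    (q : ((pull (topAug Y) (topAugTop Y) AddCommGrpCat.{u}).mapHomologicalComplex cS).obj
      (((kL r (bot DS)).mapHomologicalComplex cS).obj L) ⟶ J) [_root_.QuasiIso q]
    (θ : J' ⟶ ((PΦ r).mapHomologicalComplex cS).obj J)
    (H : Homotopy (q' ≫ θ) (xiC r L ≫ ((PΦ r).mapHomologicalComplex cS).map q)) (i : ℤ) :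
    Mono (HomologicalComplex.homologyMap
      (((push (topAug Y') (topAugTop Y') AddCommGrpCat.{u}).mapHomologicalComplex cS).map θ) i) := by
  letI := HasDerivedCategory.standard (PSh Y')
  let L₂ := ((kL r (bot DS)).mapHomologicalComplex cS).obj L
  let L₃ := ((kL s (bot DS)).mapHomologicalComplex cS).obj L₂
  let pp := pushPushInv (s.app (bot DS)) (r.app (bot DS)) (retract_app s r hsr _)
  let c : L ≅ L₃ := unitC r L ≪≫ ((kP r (bot DS)).mapHomologicalComplex cS).mapIso (unitC s L₂) ≪≫
    HomologicalComplex.Hom.isoOfComponents (fun p => pp.app (L₃.X p)) fun j k _ => (pp.hom.naturality (L₃.d j k)).symm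
  let q₃ := ((pull (topAug Y') (topAugTop Y') AddCommGrpCat.{u}).mapHomologicalComplex cS).map c.inv ≫ q'
  obtain ⟨θs, ⟨Hs⟩⟩ := exists_compare s a q hJ' q₃
  let εC : ((PΦ r).mapHomologicalComplex cS).obj (((PΦ s).mapHomologicalComplex cS).obj J') ⟶ J' :=
    { f := fun p => (retIso s r hsr).hom.app (J'.X p)
      comm' := fun j k _ => ((retIso s r hsr).hom.naturality (J'.d j k)).symm }
  let θt := θ ≫ ((PΦ r).mapHomologicalComplex cS).map θs ≫ εC
  have e : xiC r L ≫ ((PΦ r).mapHomologicalComplex cS).map (xiC s L₂ ≫ ((PΦ s).mapHomologicalComplex cS).map q₃) ≫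
      εC = q' := by
    ext p : 1
    apply ((FibDesc.adj (topAug Y') (topAugTop Y') AddCommGrpCat.{u}).homEquiv (L.X p) (J'.X p)).injective
    refine (homEquiv_retract s r hsr (L.X p) (q₃.f p)).trans ?_
    change (kA r (bot DS)).unit.app (L.X p) ≫ (kP r (bot DS)).map ((kA s (bot DS)).unit.app (L₂.X p)) ≫
      pp.hom.app (L₃.X p) ≫
        (FibDesc.adj (topAug Y') (topAugTop Y') AddCommGrpCat.{u}).homEquiv (L₃.X p) _
          ((pull (topAug Y') (topAugTop Y') AddCommGrpCat.{u}).map (c.inv.f p) ≫ q'.f p) = _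
    rw [Adjunction.homEquiv_naturality_left]
    simp only [← Category.assoc]
    refine (congrArg (· ≫ _) (?_ : _ = 𝟙 _)).trans (Category.id_comp _)
    simp only [Category.assoc]
    exact congrArg (fun t => t.f p) c.hom_inv_id
  haveI : ∀ p, Injective (J'.X p) := hJ'
  haveI : J'.IsKInjective := CochainComplex.isKInjective_of_injective J' a
  have H₁ : Homotopy (q' ≫ θt) (q' ≫ 𝟙 J') :=
    (Homotopy.ofEq (Category.assoc q' θ _).symm).trans
      ((H.compRight (((PΦ r).mapHomologicalComplex cS).map θs ≫ εC)).trans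
        ((Homotopy.ofEq (by simp only [Category.assoc, ← Functor.map_comp_assoc] :
            (xiC r L ≫ ((PΦ r).mapHomologicalComplex cS).map q) ≫ ((PΦ r).mapHomologicalComplex cS).map θs ≫ εC =
            xiC r L ≫ ((PΦ r).mapHomologicalComplex cS).map (q ≫ θs) ≫ εC)).trans
          (((((PΦ r).mapHomotopy Hs).compRight εC).compLeft _).trans
            (Homotopy.ofEq (e.trans (Category.comp_id q').symm)))))
  obtain ⟨H₂⟩ : Nonempty (Homotopy θt (𝟙 J')) := (KInjLib.map_eq_iff θt (𝟙 J')).1 (by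
    rw [← cancel_epi (DerivedCategory.Q.map q'), ← Functor.map_comp, ← Functor.map_comp]
    exact (KInjLib.map_eq_iff _ _).2 ⟨H₁⟩)
  let P := push (topAug Y') (topAugTop Y') AddCommGrpCat.{u}
  have h := (P.mapHomotopy H₂).homologyMap_eq i
  rw [CategoryTheory.Functor.map_id, HomologicalComplex.homologyMap_id] at h
  rw [Functor.map_comp, HomologicalComplex.homologyMap_comp] at h
  exact mono_of_mono_fac h

include hsr in
/-- Retracts of families of descent are of descent. -/
theorem descent_of_retract [IsIso (s.app (bot DS))] [IsIso (r.app (bot DS))] (h : IsCohDescentTop Y) :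
    IsCohDescentTop Y' := by
  refine descent_of_etaIso fun a i L hL J' hJ'ge hJ' q' hq' => ?_
  haveI := hq'
  haveI := hL
  let L₂ := ((kL r (bot DS)).mapHomologicalComplex cS).obj L
  haveI : CochainComplex.IsStrictlyGE L₂ a := CochainComplex.isStrictlyGE_iff _ _ |>.2 fun j hj =>
    (show IsZero ((kL r (bot DS)).obj (L.X j)) from
      (kL r (bot DS)).map_isZero (CochainComplex.isZero_of_isStrictlyGE L a j hj))
  obtain ⟨J, q, hq, hJ, hge⟩ := exists_res L₂ a
  haveI := hq
  obtain ⟨θ, ⟨H⟩⟩ := exists_compare r a q' hJ q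
  haveI := mono_of_retract s r hsr a hJ' q' q θ H i
  obtain ⟨H₁⟩ := nonempty_homotopy_adjunct r q' q θ H
  haveI h5 := etaIso_of_descent h a i L₂ inferInstance J hge hJ q hq
  haveI := (isIso_homologyMap_kP r _ i).2 h5
  have h1 : IsIso (HomologicalComplex.homologyMap ((unitC r L).hom ≫ ((kP r (bot DS)).mapHomologicalComplex cS).map
      (adjunct (FibDesc.adj (topAug Y) (topAugTop Y) AddCommGrpCat.{u}) q) ≫ (transfer r J).hom) i) := by
    rw [HomologicalComplex.homologyMap_comp, HomologicalComplex.homologyMap_comp]; infer_instance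
  haveI h2 := @isIso_homologyMap_of_homotopy _ _ _ _ _ _ _ H₁ i h1
  rw [HomologicalComplex.homologyMap_comp] at h2
  haveI := h2
  haveI : Epi (HomologicalComplex.homologyMap
      (((push (topAug Y') (topAugTop Y') AddCommGrpCat.{u}).mapHomologicalComplex cS).map θ) i) :=
    epi_of_epi (HomologicalComplex.homologyMap (adjunct (FibDesc.adj (topAug Y') (topAugTop Y') AddCommGrpCat.{u}) q') i) _
  haveI := isIso_of_mono_of_epi (HomologicalComplex.homologyMap
      (((push (topAug Y') (topAugTop Y') AddCommGrpCat.{u}).mapHomologicalComplex cS).map θ) i)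
  exact IsIso.of_isIso_comp_right _ (HomologicalComplex.homologyMap
      (((push (topAug Y') (topAugTop Y') AddCommGrpCat.{u}).mapHomologicalComplex cS).map θ) i)

end Retract

end Groth.Agent.FibHyper8
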